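import Mathlib

/-!
# S4587 farm (design helper23), piece S87-CENT (LONG, pure group theory): abelian normal subgroup of prime index `p`, `[X : X'] = p²` ⇒ `|C_X(z)| = p²` for `z ∉ R`.

MATH. `X = R ⊔ zpowers z` (`R` has prime index and `z ∉ R`: any subgroup strictly above `R` is `⊤`).
`κ : R →* R`, `r ↦ r⁻¹ * (z r z⁻¹)` is a hom because `R` is commutative and normal. `ker κ = C_R(z)`. `K := (κ.range).map R.subtype`.
`K` is normal in `X`: conjugation by elements of `R` fixes `K` pointwise (`R` commutative), conjugation by `z` maps `κ r` to `κ (z r z⁻¹)`; and `X = ⟨R, z⟩`.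
`X ⧸ K` is commutative: it is generated by the images of `R` (commutative) and of `z`, and `z r z⁻¹ ≡ r mod K`. Hence `commutator X ≤ K`; conversely every
`κ r = r⁻¹ z r z⁻¹ = ⁅r⁻¹, z⁆` is a commutator, so `K = commutator X`, `Nat.card K = Nat.card X / p² = Nat.card R / p`
(`R.index = p`, `Subgroup.card_mul_index`). First isomorphism theorem for `κ`: `Nat.card R = Nat.card κ.ker * Nat.card κ.range`, so `Nat.card (C_R(z)) = p`.
`C := centralizer {z}`: `C ⊓ R` has `p` elements; `C ⊔ R = ⊤` (contains `z`); `C.relIndex`… : `Nat.card C = (C ⊓ R).relIndex C * Nat.card (C ⊓ R)` and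
`(C ⊓ R).relIndex C = R.relIndex C = R.relIndex (C ⊔ R) = R.index = p` (`Subgroup.relIndex_inf_mul_relIndex`/`Subgroup.inf_relIndex_right`,
`Subgroup.relIndex_sup_right` for normal `R`). So `Nat.card C = p * p`.
Keep the statement, name, namespace exactly (you may add imports). Aux names: prefix `s87cent_`.
-/

set_option autoImplicit false

namespace Cfsg.Agent.Helper23.S87

open scoped commutatorElement

theorem card_centralizer_eq_sq {X : Type*} [Group X] [Finite X] {p : ℕ} [Fact p.Prime]
    (R : Subgroup X) [R.Normal] (hRab : ∀ a ∈ R, ∀ b ∈ R, a * b = b * a) (hidx : R.index = p)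
    (hab : (commutator X).index = p ^ 2) (z : X) (hz : z ∉ R) :
    Nat.card (Subgroup.centralizer ({z} : Set X)) = p ^ 2 := by
  have hp : p.Prime := Fact.out
  -- `X = R ⊔ zpowers z`
  have hsup : R ⊔ Subgroup.zpowers z = ⊤ := by
    by_contra hne
    have hle : R ≤ R ⊔ Subgroup.zpowers z := le_sup_left
    have hdvd : (R ⊔ Subgroup.zpowers z).index ∣ R.index := Subgroup.index_dvd_of_le hle
    rw [hidx] at hdvd
    rcases (Nat.dvd_prime hp).mp hdvd with h1 | h1
    · exact hne (Subgroup.index_eq_one.mp h1)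
    · have h2 := Subgroup.relIndex_mul_index hle
      rw [h1, hidx] at h2
      have h3 : R.relIndex (R ⊔ Subgroup.zpowers z) = 1 := by
        have hpos := hp.pos
        have : R.relIndex (R ⊔ Subgroup.zpowers z) * p = 1 * p := by rw [h2, one_mul]
        exact Nat.eq_of_mul_eq_mul_right hpos this
      have h4 : R ⊔ Subgroup.zpowers z ≤ R := Subgroup.relIndex_eq_one.mp h3
      exact hz (h4 (Subgroup.mem_sup_right (Subgroup.mem_zpowers z)))
  have hconj : ∀ r ∈ R, z * r * z⁻¹ ∈ R := fun r hr =>
    Subgroup.Normal.conj_mem inferInstance r hr z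
  have hconj' : ∀ r ∈ R, z⁻¹ * r * z ∈ R := fun r hr => by
    have := Subgroup.Normal.conj_mem (inferInstance : R.Normal) r hr z⁻¹
    rwa [inv_inv] at this
  -- the hom `κ r = r⁻¹ (z r z⁻¹)`
  let κ : R →* X := MonoidHom.mk' (fun r => (r : X)⁻¹ * (z * r * z⁻¹)) (by
    intro a b
    have h1 := hRab (b : X)⁻¹ (R.inv_mem b.2) ((a : X)⁻¹ * (z * a * z⁻¹))
      (R.mul_mem (R.inv_mem a.2) (hconj a a.2))
    simp only [Subgroup.coe_mul]
    calc ((a : X) * b)⁻¹ * (z * ((a : X) * b) * z⁻¹)
        = ((b : X)⁻¹ * ((a : X)⁻¹ * (z * a * z⁻¹))) * (z * b * z⁻¹) := by group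
      _ = ((a : X)⁻¹ * (z * a * z⁻¹)) * (b : X)⁻¹ * (z * b * z⁻¹) := by rw [h1]
      _ = (a : X)⁻¹ * (z * a * z⁻¹) * ((b : X)⁻¹ * (z * b * z⁻¹)) := by group)
  have hκ : ∀ r : R, κ r = (r : X)⁻¹ * (z * r * z⁻¹) := fun r => rfl
  have hKR : κ.range ≤ R := by
    rintro _ ⟨r, rfl⟩
    rw [hκ]
    exact R.mul_mem (R.inv_mem r.2) (hconj r r.2)
  have hKfix : ∀ k ∈ κ.range, ∀ r ∈ R, r * k * r⁻¹ = k := by
    intro k hk r hr
    have := hRab r hr k (hKR hk)
    rw [this]
    group
  have hKz : ∀ k ∈ κ.range, z * k * z⁻¹ ∈ κ.range := by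
    rintro _ ⟨r, rfl⟩
    refine ⟨⟨z * r * z⁻¹, hconj r r.2⟩, ?_⟩
    rw [hκ, hκ]
    group
  have hKz' : ∀ k ∈ κ.range, z⁻¹ * k * z ∈ κ.range := by
    rintro _ ⟨r, rfl⟩
    refine ⟨⟨z⁻¹ * r * z, hconj' r r.2⟩, ?_⟩
    rw [hκ, hκ]
    group
  have hKn : (κ.range).Normal := by
    rw [← Subgroup.normalizer_eq_top_iff, eq_top_iff, ← hsup]
    refine sup_le ?_ (Subgroup.zpowers_le.mpr ?_)
    · intro r hr
      rw [Subgroup.mem_normalizer_iff]
      intro k
      constructor
      · intro hk
        rw [hKfix k hk r hr]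
        exact hk
      · intro hk
        have h1 := hKfix _ hk r⁻¹ (R.inv_mem hr)
        have h2 : k = r⁻¹ * (r * k * r⁻¹) * r⁻¹⁻¹ := by group
        rw [h2, h1]
        exact hk
    · rw [Subgroup.mem_normalizer_iff]
      intro k
      constructor
      · exact hKz k
      · intro hk
        have h1 := hKz' _ hk
        have h2 : z⁻¹ * (z * k * z⁻¹) * z = k := by group
        rwa [h2] at h1
  haveI := hKn
  -- the quotient is commutative
  have hπR : ∀ a ∈ R, ∀ b ∈ R,
      (QuotientGroup.mk' κ.range a) * (QuotientGroup.mk' κ.range b) =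
        (QuotientGroup.mk' κ.range b) * (QuotientGroup.mk' κ.range a) := by
    intro a ha b hb
    rw [← map_mul, ← map_mul, hRab a ha b hb]
  have hπz : ∀ r ∈ R,
      (QuotientGroup.mk' κ.range z) * (QuotientGroup.mk' κ.range r) =
        (QuotientGroup.mk' κ.range r) * (QuotientGroup.mk' κ.range z) := by
    intro r hr
    have hk : QuotientGroup.mk' κ.range (κ ⟨r, hr⟩) = 1 := by
      rw [QuotientGroup.mk'_apply, QuotientGroup.eq_one_iff]
      exact ⟨⟨r, hr⟩, rfl⟩
    have e : z * r = r * κ ⟨r, hr⟩ * z := by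
      rw [hκ]
      group
    rw [← map_mul, e, map_mul, map_mul, hk, mul_one]
  have step : ∀ x : X,
      (R ≤ (Subgroup.centralizer {QuotientGroup.mk' κ.range x}).comap (QuotientGroup.mk' κ.range)) →
      (z ∈ (Subgroup.centralizer {QuotientGroup.mk' κ.range x}).comap (QuotientGroup.mk' κ.range)) →
      ∀ y, (QuotientGroup.mk' κ.range y) * (QuotientGroup.mk' κ.range x) =
        (QuotientGroup.mk' κ.range x) * (QuotientGroup.mk' κ.range y) := by
    intro x h1 h2 y
    have h3 : (⊤ : Subgroup X) ≤
        (Subgroup.centralizer {QuotientGroup.mk' κ.range x}).comap (QuotientGroup.mk' κ.range) := by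
      rw [← hsup]
      exact sup_le h1 (Subgroup.zpowers_le.mpr h2)
    have hy := h3 (Subgroup.mem_top y)
    rw [Subgroup.mem_comap, Subgroup.mem_centralizer_singleton_iff] at hy
    exact hy
  have hR' : ∀ r ∈ R, ∀ y, (QuotientGroup.mk' κ.range y) * (QuotientGroup.mk' κ.range r) =
      (QuotientGroup.mk' κ.range r) * (QuotientGroup.mk' κ.range y) := by
    intro r hr
    apply step r
    · intro s hs
      rw [Subgroup.mem_comap, Subgroup.mem_centralizer_singleton_iff]
      exact hπR s hs r hr
    · rw [Subgroup.mem_comap, Subgroup.mem_centralizer_singleton_iff]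
      exact hπz r hr
  have hz' : ∀ y, (QuotientGroup.mk' κ.range y) * (QuotientGroup.mk' κ.range z) =
      (QuotientGroup.mk' κ.range z) * (QuotientGroup.mk' κ.range y) := by
    apply step z
    · intro s hs
      rw [Subgroup.mem_comap, Subgroup.mem_centralizer_singleton_iff]
      exact (hπz s hs).symm
    · rw [Subgroup.mem_comap, Subgroup.mem_centralizer_singleton_iff]
  have hcomm : ∀ a b : X, (QuotientGroup.mk' κ.range a) * (QuotientGroup.mk' κ.range b) =
      (QuotientGroup.mk' κ.range b) * (QuotientGroup.mk' κ.range a) := by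
    intro a b
    have h3 : (⊤ : Subgroup X) ≤
        (Subgroup.centralizer {QuotientGroup.mk' κ.range a}).comap (QuotientGroup.mk' κ.range) := by
      rw [← hsup]
      refine sup_le ?_ (Subgroup.zpowers_le.mpr ?_)
      · intro r hr
        rw [Subgroup.mem_comap, Subgroup.mem_centralizer_singleton_iff]
        exact (hR' r hr a).symm
      · rw [Subgroup.mem_comap, Subgroup.mem_centralizer_singleton_iff]
        exact (hz' a).symm
    have hb := h3 (Subgroup.mem_top b)
    rw [Subgroup.mem_comap, Subgroup.mem_centralizer_singleton_iff] at hb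
    exact hb.symm
  have hXK : commutator X ≤ κ.range := by
    rw [commutator_def, Subgroup.commutator_le]
    intro a _ b _
    rw [← QuotientGroup.eq_one_iff, commutatorElement_def]
    have h1 := hcomm a b
    simp only [QuotientGroup.mk'_apply] at h1
    rw [QuotientGroup.mk_mul, QuotientGroup.mk_mul, QuotientGroup.mk_mul, QuotientGroup.mk_inv,
      QuotientGroup.mk_inv, h1]
    group
  have hKX : κ.range ≤ commutator X := by
    rintro _ ⟨r, rfl⟩
    rw [commutator_def]
    have h1 : κ r = ⁅(r : X)⁻¹, z⁆ := by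
      rw [hκ, commutatorElement_def]
      group
    rw [h1]
    exact Subgroup.commutator_mem_commutator (Subgroup.mem_top _) (Subgroup.mem_top _)
  have hKeq : κ.range = commutator X := le_antisymm hKX hXK
  -- counting
  have hcardK : Nat.card κ.range * p ^ 2 = Nat.card X := by
    rw [hKeq, ← hab]
    exact Subgroup.card_mul_index _
  have hcardR : Nat.card R * p = Nat.card X := by
    rw [← hidx]
    exact Subgroup.card_mul_index R
  have hker : Nat.card κ.ker * Nat.card κ.range = Nat.card R := by
    have h1 := Subgroup.card_mul_index κ.ker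
    rw [Subgroup.index_ker] at h1
    exact h1
  have hkerp : Nat.card κ.ker = p := by
    have hKpos : 0 < Nat.card κ.range := Nat.card_pos
    have h1 : Nat.card κ.ker * Nat.card κ.range * p = Nat.card κ.range * p ^ 2 := by
      rw [hker, hcardR, hcardK]
    have h2 : Nat.card κ.range * p * Nat.card κ.ker = Nat.card κ.range * p * p := by
      calc Nat.card κ.range * p * Nat.card κ.ker = Nat.card κ.ker * Nat.card κ.range * p := by ring
        _ = Nat.card κ.range * p ^ 2 := h1
        _ = Nat.card κ.range * p * p := by ring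
    exact Nat.eq_of_mul_eq_mul_left (Nat.mul_pos hKpos hp.pos) h2
  have hkerC : κ.ker = (Subgroup.centralizer ({z} : Set X)).subgroupOf R := by
    ext r
    rw [MonoidHom.mem_ker, Subgroup.mem_subgroupOf, Subgroup.mem_centralizer_singleton_iff, hκ]
    constructor
    · intro h
      calc (r : X) * z = r * ((r : X)⁻¹ * (z * r * z⁻¹)) * z := by rw [h]; group
        _ = z * r := by group
    · intro h
      calc (r : X)⁻¹ * (z * r * z⁻¹) = (r : X)⁻¹ * ((r : X) * z) * z⁻¹ := by rw [h]; group
        _ = 1 := by group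
  have hCR : Nat.card (Subgroup.centralizer ({z} : Set X) ⊓ R : Subgroup X) = p := by
    rw [← hkerp, hkerC, ← Subgroup.inf_subgroupOf_right]
    exact (Nat.card_congr (Subgroup.subgroupOfEquivOfLe inf_le_right).toEquiv).symm
  have hzC : z ∈ Subgroup.centralizer ({z} : Set X) := by
    rw [Subgroup.mem_centralizer_singleton_iff]
  have hCsup : Subgroup.centralizer ({z} : Set X) ⊔ R = ⊤ := by
    rw [eq_top_iff, ← hsup]
    exact sup_le le_sup_right (Subgroup.zpowers_le.mpr (Subgroup.mem_sup_left hzC))
  have hrel : (Subgroup.centralizer ({z} : Set X) ⊓ R).relIndex (Subgroup.centralizer ({z} : Set X)) = p := by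
    rw [Subgroup.inf_relIndex_left, ← Subgroup.relIndex_sup_right, hCsup, Subgroup.relIndex_top_right, hidx]
  have h3 := Subgroup.card_mul_index
    ((Subgroup.centralizer ({z} : Set X) ⊓ R).subgroupOf (Subgroup.centralizer ({z} : Set X)))
  have h4 : ((Subgroup.centralizer ({z} : Set X) ⊓ R).subgroupOf
      (Subgroup.centralizer ({z} : Set X))).index = p := hrel
  have h5 : Nat.card ((Subgroup.centralizer ({z} : Set X) ⊓ R).subgroupOf
      (Subgroup.centralizer ({z} : Set X))) = p := by
    rw [Nat.card_congr (Subgroup.subgroupOfEquivOfLe inf_le_left).toEquiv, hCR]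
  rw [h4, h5] at h3
  rw [← h3]
  ring

end Cfsg.Agent.Helper23.S87
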