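import Mathlib
import Cfsg.Prelude.Def_Solvable
import Cfsg.Prelude.Def_Transfer
import Cfsg.Agent.Lib.Helper15.ZStarMin2

/-!
# S4587 farm (design helper23): shared definitions (`Lib/S87`).

`G` finite, `P` a Sylow `p`-subgroup, `O_{p'}(G) = 1`, `core_G(P') = 1`, `[P : P'] = p²`, `|P| ≥ p³` (`Hyp`).
`NonAb N`: `N` is a nonabelian minimal normal subgroup of `G`. `MinIn N K`: `K` is a minimal `N`-invariant nontrivial subgroup of `N`.
`cj g K = g K g⁻¹`. `Cfg`: the configuration "some `y ∈ P` moves the minimal `N`-invariant subgroup `L`". `Msup y L = ⟨y^i L y^{-i} : i ∈ ℤ⟩`.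
-/

set_option autoImplicit false

namespace Cfsg.Agent.Helper23.S87

open Cfsg.Agent.Helper15.ZStarMin

universe u

variable {G : Type u} [Group G]

/-- Standing hypotheses of the forward direction (with `|P| ≥ p³`). -/
structure Hyp (p : ℕ) [Fact p.Prime] (P : Sylow p G) : Prop where
  hcore : Cfsg.pPrimeCore p G = ⊥
  hcore' : (⁅(P : Subgroup G), (P : Subgroup G)⁆).normalCore = ⊥
  hrel : (⁅(P : Subgroup G), (P : Subgroup G)⁆).relIndex (P : Subgroup G) = p ^ 2
  hbig : p ^ 2 < Nat.card (P : Subgroup G)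

/-- `N` is a nonabelian minimal normal subgroup of `G`. -/
structure NonAb (N : Subgroup G) : Prop where
  min : IsMinInv ⊤ N
  na : ¬ ∀ a ∈ N, ∀ b ∈ N, a * b = b * a

/-- `K` is a minimal nontrivial `N`-invariant subgroup of `N`. -/
def MinIn (N K : Subgroup G) : Prop := IsMinInv N K ∧ K ≤ N

/-- The conjugate `g K g⁻¹`. -/
def cj (g : G) (K : Subgroup G) : Subgroup G := K.map (MulAut.conj g).toMonoidHom

theorem mem_cj {g x : G} {K : Subgroup G} : x ∈ cj g K ↔ ∃ k ∈ K, g * k * g⁻¹ = x := by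
  unfold cj
  rw [Subgroup.mem_map]
  rfl

theorem conj_mem_cj {g k : G} {K : Subgroup G} (hk : k ∈ K) : g * k * g⁻¹ ∈ cj g K :=
  mem_cj.mpr ⟨k, hk, rfl⟩

/-- `⟨y^i L y^{-i} : i ∈ ℤ⟩`. -/
def Msup (y : G) (L : Subgroup G) : Subgroup G := ⨆ i : ℤ, cj (y ^ i) L

/-- Some `y ∈ P` moves the minimal `N`-invariant subgroup `L` of the nonabelian minimal normal subgroup `N`. -/
structure Cfg (p : ℕ) [Fact p.Prime] (P : Sylow p G) (N L : Subgroup G) (y : G) : Prop where
  hyp : Hyp p P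
  nonab : NonAb N
  minIn : MinIn N L
  hyP : y ∈ (P : Subgroup G)
  hyL : y ∉ Subgroup.normalizer (L : Set G)

/-- The conclusion of the forward direction. -/
def Concl (p : ℕ) (G : Type u) [Group G] : Prop :=
  ∃ x : G, (∃ k : ℕ, orderOf x = p ^ k) ∧
    (Nat.card (Subgroup.centralizer ({x} : Set G))).factorization p = 2

end Cfsg.Agent.Helper23.S87
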