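import Mathlib
import Cfsg.Agent.Lib.S87.S87Defs

/-!
# S4587 farm, piece S87-CJ (design helper23)

Basic facts about `cj g K = g K g⁻¹` (`mem_cj`, `conj_mem_cj` are in S87Defs). All are short (`ext` + `mem_cj` + group algebra,
or `Subgroup.map_map`, `Subgroup.map_inf` for injective maps, `Subgroup.map_commutator`, `Subgroup.card_map_of_injective`/`Nat.card_congr`).
`cj_eq_self_iff` holds without finiteness: `Subgroup.mem_normalizer_iff`.
-/

set_option autoImplicit false

namespace Cfsg.Agent.Helper23.S87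

open Cfsg.Agent.Helper15.ZStarMin

universe u

variable {G : Type u} [Group G] [Finite G] {p : ℕ} [Fact p.Prime] {P : Sylow p G}
  {N L K : Subgroup G} {y : G}

theorem cj_one (K : Subgroup G) : cj (1 : G) K = K := by
  ext x
  rw [mem_cj]
  constructor
  · rintro ⟨k, hk, rfl⟩
    simpa using hk
  · intro hx
    exact ⟨x, hx, by simp⟩

theorem cj_mul (g h : G) (K : Subgroup G) : cj (g * h) K = cj g (cj h K) := by
  ext x
  rw [mem_cj, mem_cj]
  constructor
  · rintro ⟨k, hk, rfl⟩
    exact ⟨h * k * h⁻¹, conj_mem_cj hk, by group⟩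
  · rintro ⟨m, hm, rfl⟩
    obtain ⟨k, hk, rfl⟩ := mem_cj.mp hm
    exact ⟨k, hk, by group⟩

theorem cj_inv_cj (g : G) (K : Subgroup G) : cj g⁻¹ (cj g K) = K := by
  rw [← cj_mul, inv_mul_cancel, cj_one]

theorem cj_cj_inv (g : G) (K : Subgroup G) : cj g (cj g⁻¹ K) = K := by
  rw [← cj_mul, mul_inv_cancel, cj_one]

theorem cj_mono {g : G} {K M : Subgroup G} (h : K ≤ M) : cj g K ≤ cj g M := by
  intro x hx
  obtain ⟨k, hk, rfl⟩ := mem_cj.mp hx
  exact conj_mem_cj (h hk)

theorem cj_le_iff {g : G} {K M : Subgroup G} : cj g K ≤ M ↔ K ≤ cj g⁻¹ M := by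
  constructor
  · intro h
    have := cj_mono (g := g⁻¹) h
    rwa [cj_inv_cj] at this
  · intro h
    have := cj_mono (g := g) h
    rwa [cj_cj_inv] at this

theorem cj_eq_self_iff {g : G} {K : Subgroup G} :
    cj g K = K ↔ g ∈ Subgroup.normalizer (K : Set G) := by
  rw [Subgroup.mem_normalizer_iff]
  constructor
  · intro h k
    constructor
    · intro hk
      have := conj_mem_cj (g := g) hk
      rwa [h] at this
    · intro hk
      rw [← h] at hk
      obtain ⟨k', hk', he⟩ := mem_cj.mp hk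
      have : k' = k := by
        have h1 : g⁻¹ * (g * k' * g⁻¹) * g = g⁻¹ * (g * k * g⁻¹) * g := by rw [he]
        have h2 : g⁻¹ * (g * k' * g⁻¹) * g = k' := by group
        have h3 : g⁻¹ * (g * k * g⁻¹) * g = k := by group
        rw [h2, h3] at h1
        exact h1
      rwa [← this]
  · intro h
    ext x
    rw [mem_cj]
    constructor
    · rintro ⟨k, hk, rfl⟩
      exact (h k).mp hk
    · intro hx
      refine ⟨g⁻¹ * x * g, ?_, by group⟩
      have h1 : g * (g⁻¹ * x * g) * g⁻¹ = x := by group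
      exact (h _).mpr (by rw [h1]; exact hx)

theorem cj_eq_bot_iff {g : G} {K : Subgroup G} : cj g K = ⊥ ↔ K = ⊥ := by
  unfold cj
  exact (Subgroup.map_eq_bot_iff_of_injective K (MulAut.conj g).injective)

theorem cj_inf (g : G) (K M : Subgroup G) : cj g (K ⊓ M) = cj g K ⊓ cj g M := by
  unfold cj
  exact Subgroup.map_inf K M _ (MulAut.conj g).injective

theorem cj_iSup {ι : Sort*} (g : G) (f : ι → Subgroup G) : cj g (⨆ i, f i) = ⨆ i, cj g (f i) := by
  unfold cj
  exact Subgroup.map_iSup _ f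

theorem cj_centralizer (g : G) (K : Subgroup G) :
    cj g (Subgroup.centralizer (K : Set G)) = Subgroup.centralizer ((cj g K : Subgroup G) : Set G) := by
  ext x
  rw [mem_cj, Subgroup.mem_centralizer_iff]
  constructor
  · rintro ⟨c, hc, rfl⟩ y hy
    obtain ⟨k, hk, rfl⟩ := mem_cj.mp hy
    have h1 := (Subgroup.mem_centralizer_iff.mp hc) k hk
    calc g * k * g⁻¹ * (g * c * g⁻¹) = g * (k * c) * g⁻¹ := by group
      _ = g * (c * k) * g⁻¹ := by rw [h1]
      _ = g * c * g⁻¹ * (g * k * g⁻¹) := by group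
  · intro h
    refine ⟨g⁻¹ * x * g, ?_, by group⟩
    rw [Subgroup.mem_centralizer_iff]
    intro k hk
    have h1 := h (g * k * g⁻¹) (conj_mem_cj hk)
    calc k * (g⁻¹ * x * g) = g⁻¹ * ((g * k * g⁻¹) * x) * g := by group
      _ = g⁻¹ * (x * (g * k * g⁻¹)) * g := by rw [h1]
      _ = g⁻¹ * x * g * k := by group

theorem cj_commutator (g : G) (K M : Subgroup G) : cj g ⁅K, M⁆ = ⁅cj g K, cj g M⁆ := by
  unfold cj
  exact Subgroup.map_commutator K M _

theorem card_cj (g : G) (K : Subgroup G) : Nat.card ↥(cj g K) = Nat.card ↥K := by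
  unfold cj
  exact Subgroup.card_map_of_injective (MulAut.conj g).injective

theorem cj_of_normal (g : G) (K : Subgroup G) [K.Normal] : cj g K = K := by
  rw [cj_eq_self_iff, Subgroup.normalizer_eq_top]
  exact Subgroup.mem_top g

theorem normalizer_cj (g : G) (K : Subgroup G) :
    Subgroup.normalizer ((cj g K : Subgroup G) : Set G) = cj g (Subgroup.normalizer (K : Set G)) := by
  ext x
  rw [← cj_eq_self_iff, mem_cj]
  constructor
  · intro h
    refine ⟨g⁻¹ * x * g, ?_, by group⟩
    rw [← cj_eq_self_iff, cj_mul, cj_mul, h, cj_inv_cj]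
  · rintro ⟨n, hn, rfl⟩
    rw [← cj_eq_self_iff] at hn
    rw [cj_mul, cj_mul, cj_inv_cj, hn]

end Cfsg.Agent.Helper23.S87
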