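import Mathlib
import Cfsg.Agent.Lib.S87.S87Defs
import Cfsg.Agent.Lib.S87.S87Cj

/-!
# S4587 farm, piece S87-M1 (design helper23)

Conjugation by `g ∈ G` permutes the minimal `N`-invariant subgroups of the normal subgroup `N`.
`MinIn N L = IsMinInv N L ∧ L ≤ N`, `IsMinInv N L = (L ≠ ⊥ ∧ N ≤ normalizer L ∧ ∀ M, N ≤ normalizer M → M ≤ L → M ≠ ⊥ → M = L)`.
Use the `cj` lemmas of S87Cj (by statement): `cj g L ≠ ⊥` (`cj_eq_bot_iff`); `N ≤ normalizer (cj g L)`:
`normalizer_cj` and `cj g N = N` (`cj_of_normal`), `cj_mono`; minimality: for `M ≤ cj g L`, `N`-invariant, nontrivial, the subgroup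
`cj g⁻¹ M ≤ L` (`cj_le_iff`/`cj_inv_cj`) is `N`-invariant and nontrivial, so equals `L`, whence `M = cj g L` (`cj_cj_inv`).
`cj g L ≤ N`: `cj_mono` + `cj_of_normal`.
-/

set_option autoImplicit false

namespace Cfsg.Agent.Helper23.S87

open Cfsg.Agent.Helper15.ZStarMin

universe u

variable {G : Type u} [Group G] [Finite G] {p : ℕ} [Fact p.Prime] {P : Sylow p G}
  {N L K : Subgroup G} {y : G}

theorem MinIn.conj [N.Normal] (hL : MinIn N L) (g : G) : MinIn N (cj g L) := by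
  obtain ⟨⟨hne, hNL, hmin⟩, hLN⟩ := hL
  have hinv : ∀ (h : G) (K : Subgroup G), N ≤ Subgroup.normalizer (K : Set G) →
      N ≤ Subgroup.normalizer ((cj h K : Subgroup G) : Set G) := by
    intro h K hK
    rw [normalizer_cj]
    have h1 : cj h N ≤ cj h (Subgroup.normalizer (K : Set G)) := cj_mono hK
    rwa [cj_of_normal h N] at h1
  refine ⟨⟨?_, hinv g L hNL, ?_⟩, ?_⟩
  · intro h
    exact hne (cj_eq_bot_iff.mp h)
  · intro M hNM hML hMne
    have h1 : cj g⁻¹ M ≤ L := by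
      rw [cj_le_iff, inv_inv]
      exact hML
    have h2 : cj g⁻¹ M ≠ ⊥ := fun h => hMne (cj_eq_bot_iff.mp h)
    have h3 := hmin (cj g⁻¹ M) (hinv g⁻¹ M hNM) h1 h2
    rw [← h3, cj_cj_inv]
  · have h1 : cj g L ≤ cj g N := cj_mono hLN
    rwa [cj_of_normal g N] at h1

end Cfsg.Agent.Helper23.S87

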