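import Mathlib
import Cfsg.Agent.Lib.S87.S87Defs
import Cfsg.Agent.Lib.S87.S87Min1
import Cfsg.Agent.Lib.S87.S87Cj

/-!
# S4587 farm, piece S87-CJPOW (design helper23)

The configuration is stable under replacing `L` by `cj (y^i) L`: `MinIn.conj c.minIn (y^i)` (S87Min1, `haveI := c.nonab.min.normal`),
and `y ∉ normalizer (cj (y^i) L)`: `normalizer_cj` (S87Cj) gives `normalizer (cj (y^i) L) = cj (y^i) (normalizer L)`; if `y` is in it then
`y = y^i * n * (y^i)⁻¹` with `n ∈ normalizer L` (`mem_cj`), so `n = (y^i)⁻¹ * y * y^i = y` (powers of `y` commute: `zpow_mul_comm`,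
`Commute.zpow_right`), against `c.hyL`.
-/

set_option autoImplicit false

namespace Cfsg.Agent.Helper23.S87

open Cfsg.Agent.Helper15.ZStarMin

universe u

variable {G : Type u} [Group G] [Finite G] {p : ℕ} [Fact p.Prime] {P : Sylow p G}
  {N L K : Subgroup G} {y : G}

theorem Cfg.cj_zpow (c : Cfg p P N L y) (i : ℤ) : Cfg p P N (cj (y ^ i) L) y := by
  have hNn : N.Normal := c.nonab.min.normal
  refine ⟨c.hyp, c.nonab, MinIn.conj c.minIn (y ^ i), c.hyP, ?_⟩
  intro hy
  rw [normalizer_cj, mem_cj] at hy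
  obtain ⟨n, hn, hny⟩ := hy
  apply c.hyL
  have h1 : n = (y ^ i)⁻¹ * y * y ^ i := by
    calc n = (y ^ i)⁻¹ * (y ^ i * n * (y ^ i)⁻¹) * y ^ i := by group
      _ = (y ^ i)⁻¹ * y * y ^ i := by rw [hny]
  have h2 : (y ^ i)⁻¹ * y * y ^ i = y := by
    have hc : Commute y (y ^ i) := (Commute.refl y).zpow_right i
    rw [mul_assoc, hc.eq, inv_mul_cancel_left]
  rw [h1, h2] at hn
  exact hn

end Cfsg.Agent.Helper23.S87

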