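import Mathlib
import Cfsg.Agent.Lib.S87.S87Defs

/-!
# S4587 farm, piece S87-COP (design helper23)

* `Hyp.eq_bot_of_coprime`: `le_pPrimeCore_of_le_normal p hMN hNM hcop : M ≤ pPrimeCore p G` (Lib/Helper15/ZStarMin2.lean) and `h.hcore`.
* `MinIn.dvd_card`: otherwise `(Nat.card L).Coprime p` (`(Nat.Prime.coprime_iff_not_dvd hp).mpr` + symmetry) and the first lemma with
  `M = L` (`hL.2 : L ≤ N`, `hL.1.2.1 : N ≤ normalizer L`) gives `L = ⊥`, against `hL.1.1`.
-/

set_option autoImplicit false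

namespace Cfsg.Agent.Helper23.S87

open Cfsg.Agent.Helper15.ZStarMin

universe u

variable {G : Type u} [Group G] [Finite G] {p : ℕ} [Fact p.Prime] {P : Sylow p G}
  {N L K : Subgroup G} {y : G}

theorem Hyp.eq_bot_of_coprime (h : Hyp p P) (N M : Subgroup G) [N.Normal] (hMN : M ≤ N)
    (hNM : N ≤ Subgroup.normalizer (M : Set G)) (hcop : (Nat.card ↥M).Coprime p) : M = ⊥ := by
  have h1 : M ≤ Cfsg.pPrimeCore p G := le_pPrimeCore_of_le_normal p hMN hNM hcop
  rw [h.hcore] at h1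
  exact le_bot_iff.mp h1

theorem MinIn.dvd_card [N.Normal] (h : Hyp p P) (hL : MinIn N L) : p ∣ Nat.card ↥L := by
  have hp : p.Prime := Fact.out
  by_contra hnd
  have hcop : (Nat.card ↥L).Coprime p := ((Nat.Prime.coprime_iff_not_dvd hp).mpr hnd).symm
  exact hL.1.1 (h.eq_bot_of_coprime N L hL.2 hL.1.2.1 hcop)

end Cfsg.Agent.Helper23.S87

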