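import Mathlib

/-!
# S4587 farm (design helper23), piece S87-CYC (SHORT-MEDIUM): a `p`-group whose abelianization has order `≤ p` has order `≤ p`.

RECIPE. If `X` is trivial, `Nat.card X = 1 ≤ p`. Otherwise `X` is a nontrivial nilpotent group (`hX.isNilpotent`), so `commutator X ≠ ⊤`
(`IsSolvable.commutator_lt_top_of_nontrivial`), hence its index is `> 1`, a power of `p` dividing `Nat.card X`, so `= p`; then `X ⧸ commutator X` is
cyclic (prime order: `isCyclic_of_prime_card`). Let `Γ := ⁅commutator X, ⊤⁆` (normal). In `Y := X ⧸ Γ` the image of `commutator X` is central and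
`Y` modulo it is a quotient of the cyclic `X ⧸ commutator X`; so `Y` is commutative (`commutative_of_cyclic_center_quotient`, or directly: pick `g` generating
`X` modulo `commutator X`, every element is `g ^ k * c` with `c ∈ commutator X` central mod `Γ`), i.e. `commutator X ≤ Γ = ⁅commutator X, ⊤⁆`.
By nilpotency (`lowerCentralSeries X 1 = commutator X`, `lowerCentralSeries X (n+1) = ⁅lowerCentralSeries X n, ⊤⁆`) this forces all
`lowerCentralSeries X (n+1) = commutator X`, and `lowerCentralSeries X n = ⊥` for large `n`: `commutator X = ⊥`. Then `index ⊥ = Nat.card X ≤ p`.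
ALTERNATIVE: `Cfsg/Agent/Lib/Helper21/PGroupFrattini.lean` / `Lib/Helper19/PGroupBasic.lean` may already contain "cyclic Frattini quotient ⇒ cyclic".
Keep the statement, name, namespace exactly (you may add imports). Aux names: prefix `s87cyc_`.
-/

set_option autoImplicit false

namespace Cfsg.Agent.Helper23.S87

theorem card_le_of_index_commutator_le {X : Type*} [Group X] [Finite X] {p : ℕ} [Fact p.Prime]
    (hX : IsPGroup p X) (h : (commutator X).index ≤ p) : Nat.card X ≤ p := by
  obtain ⟨n, hn⟩ : ∃ n, Nat.card X = n := ⟨_, rfl⟩
  induction n using Nat.strong_induction_on generalizing X with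
  | _ n ih =>
    have hp : p.Prime := Fact.out
    by_cases htriv : Subsingleton X
    · rw [Nat.card_of_subsingleton (1 : X)]
      exact hp.one_le
    · haveI : Nontrivial X := not_subsingleton_iff_nontrivial.mp htriv
      haveI : Nontrivial (Subgroup.center X) := hX.center_nontrivial
      have hcardlt : Nat.card (X ⧸ Subgroup.center X) < n := by
        rw [← hn, ← Subgroup.index_eq_card]
        have h1 := Subgroup.card_mul_index (Subgroup.center X)
        have hZ1 : 1 < Nat.card (Subgroup.center X) := Finite.one_lt_card
        have hpos : 0 < (Subgroup.center X).index :=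
          Nat.pos_of_ne_zero Subgroup.index_ne_zero_of_finite
        nlinarith
      have hXq : IsPGroup p (X ⧸ Subgroup.center X) := hX.to_quotient _
      have hidx : (commutator (X ⧸ Subgroup.center X)).index ≤ p := by
        have hmap : commutator (X ⧸ Subgroup.center X) =
            (commutator X).map (QuotientGroup.mk' (Subgroup.center X)) := by
          rw [commutator_def, commutator_def, Subgroup.map_commutator, ← MonoidHom.range_eq_map,
            QuotientGroup.range_mk']
        have hdvd : (commutator (X ⧸ Subgroup.center X)).index ∣ (commutator X).index := by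
          rw [hmap]
          exact Subgroup.index_map_dvd _ (QuotientGroup.mk'_surjective _)
        exact le_trans (Nat.le_of_dvd (Nat.pos_of_ne_zero Subgroup.index_ne_zero_of_finite) hdvd) h
      have hq : Nat.card (X ⧸ Subgroup.center X) ≤ p := ih _ hcardlt hXq hidx rfl
      haveI : IsCyclic (X ⧸ Subgroup.center X) := by
        obtain ⟨k, hk⟩ := IsPGroup.iff_card.mp hXq
        apply isCyclic_of_card_dvd_prime (p := p)
        rw [hk]
        have hk1 : k ≤ 1 := by
          by_contra hcon
          push_neg at hcon
          have h2 : p ^ 2 ≤ p ^ k := Nat.pow_le_pow_right hp.pos hcon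
          have h3 : p < p ^ 2 := by
            have := hp.one_lt
            nlinarith
          omega
        calc p ^ k ∣ p ^ 1 := pow_dvd_pow p hk1
          _ = p := pow_one p
      have hcomm : ∀ a b : X, a * b = b * a :=
        commutative_of_cyclic_center_quotient (QuotientGroup.mk' (Subgroup.center X))
          (by rw [QuotientGroup.ker_mk'])
      have hC : commutator X = ⊥ := by
        rw [commutator_def, Subgroup.commutator_eq_bot_iff_le_centralizer]
        intro a _
        rw [Subgroup.mem_centralizer_iff]
        intro b _
        exact hcomm b a
      rw [hC, Subgroup.index_bot] at h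
      exact h

end Cfsg.Agent.Helper23.S87
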