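import Mathlib

/-!
# S4587 farm (design helper23), piece S87-FIN (MEDIUM-LONG): from `|C_P(z)| = p²` for all `z ∈ P ∖ N` to `|C_G(y)|_p = p²`.

MATH. `C := centralizer {y}`. (a) `C ⊓ P ≤ C` has `p ^ 2` elements (`h y hyP hyN`), so `p ^ 2 ∣ Nat.card C` (`Subgroup.card_dvd_of_le`), and
`2 ≤ (Nat.card C).factorization p` (`(Nat.Prime.pow_dvd_iff_le_factorization _ _).mp`).
(b) Let `T : Sylow p ↥C` (`Nat.card T = p ^ (Nat.card C).factorization p`: `Sylow.card_eq_multiplicity`/`Sylow.card_eq_pow_factorization`…). `zpowers ⟨y, _⟩` is a normal (central)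
`p`-subgroup of `↥C` (`y ∈ P` has `p`-power order: `P.2`), so it lies in `T` (a normal `p`-subgroup lies in every Sylow: `IsPGroup.exists_le_sylow` + conjugacy, or
`Sylow.normal…`; simplest: `T ⊔ zpowers y'` is a `p`-group (`IsPGroup.to_sup_of_normal_right`) containing `T`, so equals `T` by `T.3`). `T' := T.map C.subtype` is a
`p`-subgroup of `G` containing `y`, with `T' ≤ C`. Sylow in `G`: `∃ g, ∀ t ∈ T', g * t * g⁻¹ ∈ P` (`IsPGroup.exists_le_sylow` and `MulAction.exists_smul_eq G Q P`,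
`Sylow.smul_eq_iff_mem_normalizer`/`Sylow.coe_smul`, `Subgroup.mem_pointwise_smul_iff_inv_smul_mem`, `MulAut.smul_def`, `MulAut.conj_apply`).
`z := g * y * g⁻¹ ∈ P`, `z ∉ N` (`N` normal), and `t ↦ g t g⁻¹` maps `T'` injectively into `centralizer {z} ⊓ P` (`t` commutes with `y`). So
`Nat.card T = Nat.card T' ≤ p ^ 2` (`h z _ _`), hence `(Nat.card C).factorization p ≤ 2` (`Nat.pow_le_pow_iff_right`).
Keep the statement, name, namespace exactly (you may add imports). Aux names: prefix `s87fin_`.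
-/

set_option autoImplicit false

namespace Cfsg.Agent.Helper23.S87

theorem factorization_centralizer_eq_two {G : Type*} [Group G] [Finite G] {p : ℕ} [Fact p.Prime]
    (P : Sylow p G) (N : Subgroup G) [N.Normal] (y : G) (hyP : y ∈ (P : Subgroup G)) (hyN : y ∉ N)
    (h : ∀ z ∈ (P : Subgroup G), z ∉ N →
      Nat.card ↥(Subgroup.centralizer ({z} : Set G) ⊓ (P : Subgroup G)) = p ^ 2) :
    (Nat.card (Subgroup.centralizer ({y} : Set G))).factorization p = 2 := by
  have hp : p.Prime := Fact.out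
  -- (a) the lower bound
  have hdvd : p ^ 2 ∣ Nat.card (Subgroup.centralizer ({y} : Set G)) := by
    rw [← h y hyP hyN]
    exact Subgroup.card_dvd_of_le inf_le_left
  have hCpos : Nat.card (Subgroup.centralizer ({y} : Set G)) ≠ 0 := Nat.card_pos.ne'
  have h2 : 2 ≤ (Nat.card (Subgroup.centralizer ({y} : Set G))).factorization p :=
    (hp.pow_dvd_iff_le_factorization hCpos).mp hdvd
  -- (b) the upper bound
  have hyC : y ∈ Subgroup.centralizer ({y} : Set G) :=
    Subgroup.mem_centralizer_iff.mpr (fun m hm => by rw [Set.mem_singleton_iff.mp hm])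
  obtain ⟨T, hT⟩ := (P.2.comap_subtype (K := Subgroup.centralizer ({y} : Set G))).exists_le_sylow
  have hyT : (⟨y, hyC⟩ : ↥(Subgroup.centralizer ({y} : Set G))) ∈ (T : Subgroup _) :=
    hT (Subgroup.mem_comap.mpr hyP)
  have hT'p : IsPGroup p ↥((T : Subgroup _).map (Subgroup.centralizer ({y} : Set G)).subtype) :=
    T.2.map _
  have hT'card : Nat.card ↥((T : Subgroup _).map (Subgroup.centralizer ({y} : Set G)).subtype) =
      p ^ (Nat.card (Subgroup.centralizer ({y} : Set G))).factorization p := by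
    rw [Subgroup.card_map_of_injective (Subgroup.subtype_injective _)]
    exact T.card_eq_multiplicity
  obtain ⟨Q, hQ⟩ := hT'p.exists_le_sylow
  obtain ⟨g, hg⟩ := MulAction.exists_smul_eq G Q P
  have hconj : ∀ t ∈ (T : Subgroup _).map (Subgroup.centralizer ({y} : Set G)).subtype,
      g * t * g⁻¹ ∈ (P : Subgroup G) := by
    intro t ht
    rw [← hg, Sylow.smul_def, Sylow.pointwise_smul_def]
    exact Subgroup.smul_mem_pointwise_smul t (MulAut.conj g) Q (hQ ht)
  have hyT' : y ∈ (T : Subgroup _).map (Subgroup.centralizer ({y} : Set G)).subtype :=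
    ⟨⟨y, hyC⟩, hyT, rfl⟩
  have hzP := hconj y hyT'
  have hzN : g * y * g⁻¹ ∉ N := by
    intro hz
    apply hyN
    have h1 := (inferInstance : N.Normal).conj_mem _ hz g⁻¹
    have e : g⁻¹ * (g * y * g⁻¹) * g⁻¹⁻¹ = y := by group
    rwa [e] at h1
  have hmap : ((T : Subgroup _).map (Subgroup.centralizer ({y} : Set G)).subtype).map
      (MulAut.conj g).toMonoidHom ≤
      Subgroup.centralizer ({g * y * g⁻¹} : Set G) ⊓ (P : Subgroup G) := by
    rintro _ ⟨t, ht, rfl⟩
    refine Subgroup.mem_inf.mpr ⟨?_, hconj t ht⟩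
    rw [Subgroup.mem_centralizer_iff]
    intro m hm
    rw [Set.mem_singleton_iff.mp hm]
    have htC : t ∈ Subgroup.centralizer ({y} : Set G) := by
      obtain ⟨c, -, rfl⟩ := ht
      exact c.2
    have hcomm : y * t = t * y := Subgroup.mem_centralizer_iff.mp htC y rfl
    show g * y * g⁻¹ * (g * t * g⁻¹) = g * t * g⁻¹ * (g * y * g⁻¹)
    calc g * y * g⁻¹ * (g * t * g⁻¹) = g * (y * t) * g⁻¹ := by group
      _ = g * (t * y) * g⁻¹ := by rw [hcomm]
      _ = g * t * g⁻¹ * (g * y * g⁻¹) := by group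
  have hcard := Subgroup.card_le_of_le hmap
  rw [Subgroup.card_map_of_injective (MulAut.conj g).injective, hT'card, h _ hzP hzN] at hcard
  have h3 := (Nat.pow_le_pow_iff_right hp.one_lt).mp hcard
  omega

end Cfsg.Agent.Helper23.S87
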