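import Mathlib
import Cfsg.Agent.Lib.S87.S87Defs
import Cfsg.Agent.Lib.S87.S87Cent
import Cfsg.Agent.Lib.S87.S87Fin

/-!
# S4587 farm, piece S87-END (design helper23)

The endgame. `X := ↥P`, `R := (N ⊓ P).subgroupOf P` (normal since `N` is; commutative by `hab`; `R.index = (N ⊓ P).relIndex P = p` by definition
of `relIndex`), `(commutator X).index = (⁅P,P⁆).relIndex P = p^2` (`h.hrel`; `⁅P,P⁆.subgroupOf P = commutator ↥P` via
`Subgroup.map_subtype_commutator` and injectivity of `subtype`). `card_centralizer_eq_sq R _ hidx hab' z hz` (S87Cent) gives for every `z : ↥P`, `z ∉ R`: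
`Nat.card (centralizer {z}) = p ^ 2` in `↥P`. For `z ∈ P`, `z ∉ N` this transfers: `centralizer_G {z} ⊓ P` is in bijection with the
centralizer of `⟨z, _⟩` in `↥P` (`Nat.card_congr`; `Subgroup.mem_centralizer_singleton_iff`/`Subgroup.mem_centralizer_iff`), so the
hypothesis of `factorization_centralizer_eq_two P N y hyP hyN` (S87Fin) holds. Since `relIndex = p ≠ 1` there is `y ∈ P`, `y ∉ N ⊓ P`, i.e. `y ∉ N`
(`Subgroup.relIndex_eq_one`, `SetLike.not_le_iff_exists`). `y` is a `p`-element: `(IsPGroup.iff_orderOf.mp P.2) ⟨y, hyP⟩` and `Subgroup.orderOf_mk`.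
`Concl` is in S87Defs (`unfold Concl`): the witness is `y`.
-/

set_option autoImplicit false

namespace Cfsg.Agent.Helper23.S87

open Cfsg.Agent.Helper15.ZStarMin

universe u

variable {G : Type u} [Group G] [Finite G] {p : ℕ} [Fact p.Prime] {P : Sylow p G}
  {N L K : Subgroup G} {y : G}

theorem Hyp.endgame (h : Hyp p P) (N : Subgroup G) [N.Normal]
    (hab : ∀ a ∈ N ⊓ (P : Subgroup G), ∀ b ∈ N ⊓ (P : Subgroup G), a * b = b * a)
    (hidx : (N ⊓ (P : Subgroup G)).relIndex (P : Subgroup G) = p) : Concl p G := by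
  have hp : p.Prime := Fact.out
  obtain ⟨R, hR⟩ : ∃ R : Subgroup ↥(P : Subgroup G),
      R = (N ⊓ (P : Subgroup G)).subgroupOf (P : Subgroup G) := ⟨_, rfl⟩
  haveI hRn : R.Normal := by
    rw [hR, Subgroup.inf_subgroupOf_right]
    infer_instance
  have hRab : ∀ a ∈ R, ∀ b ∈ R, a * b = b * a := by
    intro a ha b hb
    rw [hR] at ha hb
    apply Subtype.ext
    exact hab a.1 (Subgroup.mem_subgroupOf.mp ha) b.1 (Subgroup.mem_subgroupOf.mp hb)
  have hRidx : R.index = p := by
    rw [hR]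
    exact hidx
  have hcomm : (commutator ↥(P : Subgroup G)).index = p ^ 2 := by
    have h1 : (⁅(P : Subgroup G), (P : Subgroup G)⁆).subgroupOf (P : Subgroup G) =
        commutator ↥(P : Subgroup G) := by
      apply Subgroup.map_injective (Subgroup.subtype_injective _)
      rw [Subgroup.map_subtype_commutator,
        Subgroup.map_subgroupOf_eq_of_le (Subgroup.commutator_le_self _)]
    rw [← h1]
    exact h.hrel
  have hall : ∀ z ∈ (P : Subgroup G), z ∉ N →
      Nat.card ↥(Subgroup.centralizer ({z} : Set G) ⊓ (P : Subgroup G)) = p ^ 2 := by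
    intro z hzP hzN
    have hz' : (⟨z, hzP⟩ : ↥(P : Subgroup G)) ∉ R := by
      intro hzR
      rw [hR] at hzR
      exact hzN (Subgroup.mem_inf.mp (Subgroup.mem_subgroupOf.mp hzR)).1
    have h2 := card_centralizer_eq_sq R hRab hRidx hcomm ⟨z, hzP⟩ hz'
    have h3 : (Subgroup.centralizer ({(⟨z, hzP⟩ : ↥(P : Subgroup G))} :
        Set ↥(P : Subgroup G))).map (P : Subgroup G).subtype =
        Subgroup.centralizer ({z} : Set G) ⊓ (P : Subgroup G) := by
      ext x
      constructor
      · rintro ⟨w, hw, rfl⟩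
        refine Subgroup.mem_inf.mpr ⟨?_, w.2⟩
        rw [SetLike.mem_coe, Subgroup.mem_centralizer_singleton_iff] at hw
        rw [Subgroup.mem_centralizer_singleton_iff]
        exact congrArg (fun v : ↥(P : Subgroup G) => (v : G)) hw
      · intro hx
        obtain ⟨hx1, hx2⟩ := Subgroup.mem_inf.mp hx
        refine ⟨⟨x, hx2⟩, ?_, rfl⟩
        rw [SetLike.mem_coe, Subgroup.mem_centralizer_singleton_iff]
        rw [Subgroup.mem_centralizer_singleton_iff] at hx1
        exact Subtype.ext hx1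
    rw [← h3, Subgroup.card_map_of_injective (Subgroup.subtype_injective _)]
    exact h2
  have hnle : ¬ (P : Subgroup G) ≤ N ⊓ (P : Subgroup G) := by
    intro hle
    have h4 := Subgroup.relIndex_eq_one.mpr hle
    rw [hidx] at h4
    exact hp.one_lt.ne' h4
  obtain ⟨y, hyP, hyN'⟩ := SetLike.not_le_iff_exists.mp hnle
  have hyN : y ∉ N := fun hy => hyN' (Subgroup.mem_inf.mpr ⟨hy, hyP⟩)
  unfold Concl
  refine ⟨y, ?_, factorization_centralizer_eq_two P N y hyP hyN hall⟩
  obtain ⟨k, hk⟩ := (IsPGroup.iff_orderOf.mp P.2) ⟨y, hyP⟩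
  refine ⟨k, ?_⟩
  rw [← hk, Subgroup.orderOf_mk]

end Cfsg.Agent.Helper23.S87

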