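import Mathlib
import Cfsg.Agent.Lib.S87.S87Cyc

/-!
# S4587 farm (design helper23), piece S87-L1 (MEDIUM): a `P`-invariant subgroup `A ≤ P` not inside `P'` has index `≤ p` in `P`, when `[P : P'] = p²`.

RECIPE. Work in `X := ↥P`, `A' := A.subgroupOf P` (normal in `X`: from `hnorm`; `Subgroup.normal_subgroupOf_iff_le_normalizer hAP`), `D := commutator X`
(`D.map P.subtype = ⁅P, P⁆`: `Subgroup.map_subtype_commutator`; so `D.index = (⁅P,P⁆).relIndex P = p ^ 2` and `¬ A' ≤ D`).
`Q := X ⧸ A'` is a `p`-group (`hP.to_quotient`). `commutator Q = (commutator X).map (mk' A')` (`Subgroup.map_commutator`/`map_top_of_surjective`), and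
`((commutator X).map (mk' A')).index = (commutator X ⊔ A').index` (`Subgroup.index_map` with `ker (mk' A') = A'`, surjective). `D < D ⊔ A'` strictly, and
`(D ⊔ A').index ∣ D.index = p ^ 2` (`Subgroup.index_dvd_of_le`) with `(D ⊔ A').index ≠ p ^ 2` (else `D = D ⊔ A'` by `Subgroup.index_eq…`/card comparison:
`relIndex D (D ⊔ A') = 1`), so `(D ⊔ A').index ∈ {1, p}` (`(Nat.dvd_prime_pow _).mp`), `≤ p`.
`card_le_of_index_commutator_le` gives `Nat.card Q ≤ p`, and `Nat.card Q = A'.index = A.relIndex P`.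
Keep the statement, name, namespace exactly (you may add imports). Aux names: prefix `s87l1_`.
-/

set_option autoImplicit false

namespace Cfsg.Agent.Helper23.S87

theorem relIndex_le_of_not_le_commutator {G : Type*} [Group G] {p : ℕ} [Fact p.Prime]
    (P : Subgroup G) [Finite P] (hP : IsPGroup p P)
    (hrel : (⁅P, P⁆).relIndex P = p ^ 2)
    (A : Subgroup G) (hAP : A ≤ P) (hnorm : P ≤ Subgroup.normalizer (A : Set G))
    (hnot : ¬ A ≤ ⁅P, P⁆) : A.relIndex P ≤ p := by
  classical
  have hpp : p.Prime := Fact.out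
  have hA'n : (A.subgroupOf P).Normal :=
    (Subgroup.normal_subgroupOf_iff_le_normalizer hAP).mpr hnorm
  obtain ⟨A', hA'⟩ : ∃ A' : Subgroup P, A' = A.subgroupOf P := ⟨_, rfl⟩
  haveI : A'.Normal := hA' ▸ hA'n
  obtain ⟨D, hD⟩ : ∃ D : Subgroup P, D = commutator P := ⟨_, rfl⟩
  have hDmap : D.map P.subtype = ⁅P, P⁆ := hD ▸ Subgroup.map_subtype_commutator P
  have hDeq : D = (⁅P, P⁆).subgroupOf P := by
    rw [← hDmap]
    exact (Subgroup.comap_map_eq_self_of_injective P.subtype_injective D).symm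
  have hDidx : D.index = p ^ 2 := by
    rw [hDeq]
    exact hrel
  have hnotA : ¬ A' ≤ D := by
    intro h
    apply hnot
    intro a ha
    have h1 : (⟨a, hAP ha⟩ : P) ∈ A' := by
      rw [hA']
      exact Subgroup.mem_subgroupOf.mpr ha
    have h2 := h h1
    rw [hDeq] at h2
    exact Subgroup.mem_subgroupOf.mp h2
  have hQp : IsPGroup p (P ⧸ A') := hP.to_quotient A'
  have hcomm : commutator (P ⧸ A') = D.map (QuotientGroup.mk' A') := by
    rw [hD, commutator_def, commutator_def, Subgroup.map_commutator,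
      Subgroup.map_top_of_surjective _ (QuotientGroup.mk'_surjective A')]
  have hidx : (commutator (P ⧸ A')).index = (D ⊔ A').index := by
    rw [hcomm, Subgroup.index_map, QuotientGroup.ker_mk',
      MonoidHom.range_eq_top.mpr (QuotientGroup.mk'_surjective A'), Subgroup.index_top, mul_one]
  have hdvd : (D ⊔ A').index ∣ p ^ 2 := hDidx ▸ Subgroup.index_dvd_of_le le_sup_left
  obtain ⟨k, hk, hkeq⟩ := (Nat.dvd_prime_pow hpp).mp hdvd
  have hk2 : k ≠ 2 := by
    intro h2
    subst h2
    have h1 : D.relIndex (D ⊔ A') * (D ⊔ A').index = D.index :=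
      Subgroup.relIndex_mul_index le_sup_left
    rw [hkeq, hDidx] at h1
    have h3 : D.relIndex (D ⊔ A') = 1 := by
      have hpos : 0 < p ^ 2 := pow_pos hpp.pos 2
      exact Nat.eq_of_mul_eq_mul_right hpos (by rw [h1, one_mul])
    have h4 : D ⊔ A' ≤ D := Subgroup.relIndex_eq_one.mp h3
    exact hnotA (le_sup_right.trans h4)
  have hle : (commutator (P ⧸ A')).index ≤ p := by
    rw [hidx, hkeq]
    have hk1 : k ≤ 1 := by omega
    calc p ^ k ≤ p ^ 1 := Nat.pow_le_pow_right hpp.pos hk1
      _ = p := pow_one p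
  have hcard := card_le_of_index_commutator_le hQp hle
  have h5 : A.relIndex P = Nat.card (P ⧸ A') := by
    rw [hA']
    rfl
  rw [h5]
  exact hcard

end Cfsg.Agent.Helper23.S87
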