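import Mathlib
import Cfsg.Agent.Lib.S87.S87Defs
import Cfsg.Agent.Lib.S87.S87L1

/-!
# S4587 farm, piece S87-IDX (design helper23)

Apply `relIndex_le_of_not_le_commutator (P : Subgroup G) P.2 h.hrel (K ⊓ P) inf_le_right _ hK` (S87L1). The remaining goal
`P ≤ normalizer (K ⊓ P)`: `g ∈ P` normalizes `K` (hPK) and `P` (`Subgroup.le_normalizer`), hence `K ⊓ P`
(`Subgroup.mem_normalizer_iff`, `Subgroup.mem_inf`).
-/

set_option autoImplicit false

namespace Cfsg.Agent.Helper23.S87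

open Cfsg.Agent.Helper15.ZStarMin

universe u

variable {G : Type u} [Group G] [Finite G] {p : ℕ} [Fact p.Prime] {P : Sylow p G}
  {N L K : Subgroup G} {y : G}

theorem Hyp.relIndex_le (h : Hyp p P) (K : Subgroup G)
    (hPK : (P : Subgroup G) ≤ Subgroup.normalizer (K : Set G))
    (hK : ¬ K ⊓ (P : Subgroup G) ≤ ⁅(P : Subgroup G), (P : Subgroup G)⁆) :
    (K ⊓ (P : Subgroup G)).relIndex (P : Subgroup G) ≤ p := by
  apply relIndex_le_of_not_le_commutator (P : Subgroup G) P.2 h.hrel (K ⊓ (P : Subgroup G))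
    inf_le_right _ hK
  intro g hg
  have h1 := Subgroup.mem_normalizer_iff.mp (hPK hg)
  rw [Subgroup.mem_normalizer_iff]
  intro x
  rw [Subgroup.mem_inf, Subgroup.mem_inf]
  constructor
  · rintro ⟨hxK, hxP⟩
    exact ⟨(h1 x).mp hxK, Subgroup.mul_mem _ (Subgroup.mul_mem _ hg hxP) (Subgroup.inv_mem _ hg)⟩
  · rintro ⟨hxK, hxP⟩
    refine ⟨(h1 x).mpr hxK, ?_⟩
    have h2 := Subgroup.mul_mem _ (Subgroup.mul_mem _ (Subgroup.inv_mem _ hg) hxP) hg
    have e : g⁻¹ * (g * x * g⁻¹) * g = x := by group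
    rwa [e] at h2

end Cfsg.Agent.Helper23.S87

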