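import Mathlib
import Cfsg.Prelude.Def_Transfer
import Cfsg.Agent.Lib.Helper1.Tate
import Cfsg.Agent.Lib.Helper23.PGroup

/-!
# S4587 farm (design helper23), piece S87-TATE (LONG, fiddly): Tate's theorem inside the subgroup `K P`.

STATEMENT. `P` a Sylow `p`-subgroup of `G`, `K ≤ G` normalized by `P`, and `K ∩ P ≤ P'`. Then `O^p(K)` is a `p'`-group.
PROOF (helper1). `H := K ⊔ P`; `Kh := K.subgroupOf H` is normal in `↥H`; `Ph := P.subtype _` is a Sylow subgroup of `↥H`; apply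
`Cfsg.Agent.Helper1.tate_pResidual Ph Kh`, then transport `pResidual` along `Kh ≃* K`.
-/

set_option autoImplicit false

namespace Cfsg.Agent.Helper23.S87

theorem not_dvd_card_pResidual_of_inf_le {G : Type*} [Group G] [Finite G] {p : ℕ} [Fact p.Prime]
    (P : Sylow p G) (K : Subgroup G) (hPK : (P : Subgroup G) ≤ Subgroup.normalizer (K : Set G))
    (h : K ⊓ (P : Subgroup G) ≤ ⁅(P : Subgroup G), (P : Subgroup G)⁆) :
    ¬ p ∣ Nat.card (Cfsg.pResidual p ↥K) := by
  set H : Subgroup G := K ⊔ (P : Subgroup G) with hH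
  have hKH : K ≤ H := le_sup_left
  have hPH : (P : Subgroup G) ≤ H := le_sup_right
  have hHN : H ≤ Subgroup.normalizer (K : Set G) := sup_le Subgroup.le_normalizer hPK
  haveI hKn : (K.subgroupOf H).Normal :=
    (Subgroup.normal_subgroupOf_iff_le_normalizer hKH).mpr hHN
  obtain ⟨Ph, hPh⟩ : ∃ Ph : Sylow p ↥H, (Ph : Subgroup ↥H) = (P : Subgroup G).subgroupOf H :=
    ⟨P.subtype hPH, Sylow.coe_subtype P hPH⟩
  have hcomm : commutator ↥(Ph : Subgroup ↥H) ≤ frattini ↥(Ph : Subgroup ↥H) :=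
    Cfsg.Agent.Helper23.commutator_le_frattini_pgroup p Ph.isPGroup'
  have key : (K.subgroupOf H) ⊓ (Ph : Subgroup ↥H) ≤
      (frattini ↥(Ph : Subgroup ↥H)).map (Ph : Subgroup ↥H).subtype := by
    intro w hw
    obtain ⟨hw1, hw2⟩ := Subgroup.mem_inf.mp hw
    have hwK : (w : G) ∈ K := Subgroup.mem_subgroupOf.mp hw1
    have hwP : (w : G) ∈ (P : Subgroup G) := by
      rw [hPh] at hw2
      exact Subgroup.mem_subgroupOf.mp hw2
    have hwc : (w : G) ∈ ⁅(P : Subgroup G), (P : Subgroup G)⁆ :=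
      h (Subgroup.mem_inf.mpr ⟨hwK, hwP⟩)
    have h1 : (⁅(Ph : Subgroup ↥H), (Ph : Subgroup ↥H)⁆).map H.subtype =
        ⁅(P : Subgroup G), (P : Subgroup G)⁆ := by
      rw [Subgroup.map_commutator, hPh, Subgroup.map_subgroupOf_eq_of_le hPH]
    have h2 : w ∈ ⁅(Ph : Subgroup ↥H), (Ph : Subgroup ↥H)⁆ := by
      rw [← h1] at hwc
      obtain ⟨w', hw', hww⟩ := hwc
      have hw'w : w' = w := Subtype.ext hww
      rwa [← hw'w]
    rw [← Subgroup.map_subtype_commutator] at h2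
    exact Subgroup.map_mono hcomm h2
  have hT := Cfsg.Agent.Helper1.tate_pResidual Ph (K.subgroupOf H) key
  obtain ⟨e⟩ : Nonempty (↥(K.subgroupOf H) ≃* ↥K) := ⟨Subgroup.subgroupOfEquivOfLe hKH⟩
  have hmap := Cfsg.Agent.Helper25.map_pResidual_equiv p e
  have hcard : Nat.card (Cfsg.pResidual p ↥K) =
      Nat.card (Cfsg.pResidual p ↥(K.subgroupOf H)) := by
    rw [← hmap]
    exact Subgroup.card_map_of_injective e.injective
  rw [hcard]
  exact hT

end Cfsg.Agent.Helper23.S87
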