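import Mathlib
import Cfsg.Agent.Lib.S87.S87Defs
import Cfsg.Agent.Lib.S87.S87Tate

/-!
# S4587 farm, piece S87-STAR (design helper23)

Every nontrivial normal `N` has `N ∩ P ≰ P'`.
Suppose `N ⊓ P ≤ ⁅P,P⁆`. `not_dvd_card_pResidual_of_inf_le P N (by normalizer = ⊤) h` (S87Tate) gives `p ∤ |O^p(N)|`.
`R := (pResidual p ↥N).map N.subtype` is normal in `G` (`Cfsg.Agent.Helper1.map_pResidual_normal`), of order prime to `p`, so
`R ≤ pPrimeCore p G = ⊥` (`le_pPrimeCore_of_le_normal p (N := R) le_rfl _ hcop` from Lib/Helper15/ZStarMin2, or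
`Cfsg.Agent.Helper7.subnormal_coprime_le_pPrimeCore`) and `h.hcore`. So `pResidual p ↥N = ⊥` and `N` is a `p`-group
(`Cfsg.Agent.Helper22.isPGroup_quotient_pResidual`: `N ⧸ pResidual` is a `p`-group). A normal `p`-subgroup lies in every Sylow:
`N ≤ Q` for some Sylow `Q` (`IsPGroup.exists_le_sylow`), `Q = g • P`, `N` normal ⇒ `N ≤ P`. So `N = N ⊓ P ≤ ⁅P,P⁆`, and `N` normal
gives `N ≤ normalCore ⁅P,P⁆ = ⊥` (`Subgroup.normal_le_normalCore`, `h.hcore'`), contradicting `hN`.
-/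

set_option autoImplicit false

namespace Cfsg.Agent.Helper23.S87

open Cfsg.Agent.Helper15.ZStarMin

universe u

variable {G : Type u} [Group G] [Finite G] {p : ℕ} [Fact p.Prime] {P : Sylow p G}
  {N L K : Subgroup G} {y : G}

theorem Hyp.not_inf_le (h : Hyp p P) (N : Subgroup G) [N.Normal] (hN : N ≠ ⊥) :
    ¬ N ⊓ (P : Subgroup G) ≤ ⁅(P : Subgroup G), (P : Subgroup G)⁆ := by
  intro hle
  have hNn : N.Normal := inferInstance
  have hPN : (P : Subgroup G) ≤ Subgroup.normalizer (N : Set G) := by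
    rw [Subgroup.normalizer_eq_top]
    exact le_top
  have hndvd := not_dvd_card_pResidual_of_inf_le P N hPN hle
  have hRn : ((Cfsg.pResidual p ↥N).map N.subtype).Normal :=
    Cfsg.Agent.Helper1.map_pResidual_normal N
  have hcardR : Nat.card ↥((Cfsg.pResidual p ↥N).map N.subtype) = Nat.card (Cfsg.pResidual p ↥N) :=
    Subgroup.card_map_of_injective N.subtype_injective
  have hcop : (Nat.card ↥((Cfsg.pResidual p ↥N).map N.subtype)).Coprime p := by
    rw [hcardR]
    exact ((Nat.Prime.coprime_iff_not_dvd Fact.out).mpr hndvd).symm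
  have hRle : (Cfsg.pResidual p ↥N).map N.subtype ≤ Cfsg.pPrimeCore p G :=
    le_pPrimeCore_of_le_normal p (N := (Cfsg.pResidual p ↥N).map N.subtype) le_rfl
      Subgroup.le_normalizer hcop
  rw [h.hcore] at hRle
  have hres : Cfsg.pResidual p ↥N = ⊥ :=
    (Subgroup.map_eq_bot_iff_of_injective _ N.subtype_injective).mp (le_bot_iff.mp hRle)
  have hNp : IsPGroup p ↥N := by
    intro n
    obtain ⟨a, ha⟩ := Cfsg.Agent.Helper22.exists_pow_mem_pResidual (p := p) n
    rw [hres, Subgroup.mem_bot] at ha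
    exact ⟨a, ha⟩
  obtain ⟨Q, hQ⟩ := hNp.exists_le_sylow
  obtain ⟨g, rfl⟩ := MulAction.exists_smul_eq G P Q
  have hNP : N ≤ (P : Subgroup G) := by
    intro n hn
    have h1 : g * n * g⁻¹ ∈ N := hNn.conj_mem n hn g
    have h2 : g * n * g⁻¹ ∈ ((g • P : Sylow p G) : Subgroup G) := hQ h1
    rw [Sylow.coe_subgroup_smul, Subgroup.mem_smul_pointwise_iff_exists] at h2
    obtain ⟨s, hs, hsn⟩ := h2
    have h3 : g * s * g⁻¹ = g * n * g⁻¹ := by
      simpa [MulAut.smul_def, MulAut.conj_apply] using hsn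
    have h4 : s = n := by
      have := mul_right_cancel (mul_left_cancel (by simpa [mul_assoc] using h3 : g * (s * g⁻¹) = g * (n * g⁻¹)))
      exact this
    rw [← h4]
    exact hs
  have h5 : N ≤ ⁅(P : Subgroup G), (P : Subgroup G)⁆ := fun n hn => hle ⟨hn, hNP hn⟩
  have h6 : N ≤ (⁅(P : Subgroup G), (P : Subgroup G)⁆).normalCore :=
    (Subgroup.normal_le_normalCore).mpr h5
  rw [h.hcore'] at h6
  exact hN (le_bot_iff.mp h6)

end Cfsg.Agent.Helper23.S87

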