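import Mathlib

/-!
# S4587 farm (design helper23), piece S87-TWO (SHORT-MEDIUM): two subgroups of index `≤ p` with trivial intersection force `|P| ≤ p²`.

RECIPE. `Nat.card P = A₁.relIndex P * Nat.card A₁` (`Subgroup.relIndex_mul_card`? or `Subgroup.card_mul_index (A₁.subgroupOf P)` + `Subgroup.subgroupOfEquivOfLe h1`).
The map `A₂ → ↥P ⧸ A₁.subgroupOf P`, `a ↦ ⟦⟨a, h2 a.2⟩⟧` is injective (if `a⁻¹ b ∈ A₁` with `a b ∈ A₂` then `a⁻¹ b ∈ A₁ ⊓ A₂ = ⊥`), so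
`Nat.card A₂ ≤ A₁.relIndex P ≤ p` (`Nat.card_le_card_of_injective`, `Subgroup.index_eq_card`). Symmetrically `Nat.card A₁ ≤ p`. Hence
`Nat.card P = relIndex * card A₁ ≤ p * p`.
Keep the statement, name, namespace exactly (you may add imports). Aux names: prefix `s87two_`.
-/

set_option autoImplicit false

namespace Cfsg.Agent.Helper23.S87

theorem card_le_sq_of_two {G : Type*} [Group G] {p : ℕ} (P A₁ A₂ : Subgroup G) [Finite P]
    (h1 : A₁ ≤ P) (h2 : A₂ ≤ P) (hd : A₁ ⊓ A₂ = ⊥)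
    (hi1 : A₁.relIndex P ≤ p) (hi2 : A₂.relIndex P ≤ p) : Nat.card P ≤ p ^ 2 := by
  have hb : (A₁ ⊓ A₂).relIndex P = Nat.card P := by
    rw [hd, Subgroup.relIndex_bot_left]
  have hle : (A₁ ⊓ A₂).relIndex P ≤ A₁.relIndex P * A₂.relIndex P := Subgroup.relIndex_inf_le
  calc Nat.card P = (A₁ ⊓ A₂).relIndex P := hb.symm
    _ ≤ A₁.relIndex P * A₂.relIndex P := hle
    _ ≤ p * p := Nat.mul_le_mul hi1 hi2
    _ = p ^ 2 := (sq p).symm

end Cfsg.Agent.Helper23.S87
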