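import Mathlib
import Cfsg.Agent.Lib.S87.S87Defs
import Cfsg.Agent.Lib.S87.S87Star
import Cfsg.Agent.Lib.S87.S87Idx
import Cfsg.Agent.Lib.S87.S87Two

/-!
# S4587 farm, piece S87-UNIQ (design helper23)

* `Hyp.inf_ne_bot_of_not_le`: `Hyp.relIndex_le` (S87Idx) for `K₁` and `K₂`; if `K₁ ⊓ K₂ = ⊥` then `(K₁ ⊓ P) ⊓ (K₂ ⊓ P) = ⊥`, and
  `card_le_sq_of_two (P : Subgroup G) (K₁ ⊓ P) (K₂ ⊓ P) inf_le_right inf_le_right _ _ _` (S87Two) gives `|P| ≤ p²`, against `h.hbig`.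
* `Hyp.inf_ne_bot`: `Hyp.not_inf_le` (S87Star) for `A` and `B`, normalizers are `⊤` (`Subgroup.normalizer_eq_top`), then the first lemma.
-/

set_option autoImplicit false

namespace Cfsg.Agent.Helper23.S87

open Cfsg.Agent.Helper15.ZStarMin

universe u

variable {G : Type u} [Group G] [Finite G] {p : ℕ} [Fact p.Prime] {P : Sylow p G}
  {N L K : Subgroup G} {y : G}

theorem Hyp.inf_ne_bot_of_not_le (h : Hyp p P) (K₁ K₂ : Subgroup G)
    (hP1 : (P : Subgroup G) ≤ Subgroup.normalizer (K₁ : Set G))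
    (hP2 : (P : Subgroup G) ≤ Subgroup.normalizer (K₂ : Set G))
    (h1 : ¬ K₁ ⊓ (P : Subgroup G) ≤ ⁅(P : Subgroup G), (P : Subgroup G)⁆)
    (h2 : ¬ K₂ ⊓ (P : Subgroup G) ≤ ⁅(P : Subgroup G), (P : Subgroup G)⁆) : K₁ ⊓ K₂ ≠ ⊥ := by
  intro hbot
  have hi1 := h.relIndex_le K₁ hP1 h1
  have hi2 := h.relIndex_le K₂ hP2 h2
  have hd : (K₁ ⊓ (P : Subgroup G)) ⊓ (K₂ ⊓ (P : Subgroup G)) = ⊥ := by
    rw [eq_bot_iff, ← hbot]
    exact inf_le_inf inf_le_left inf_le_left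
  have hle := card_le_sq_of_two (P : Subgroup G) (K₁ ⊓ (P : Subgroup G)) (K₂ ⊓ (P : Subgroup G))
    inf_le_right inf_le_right hd hi1 hi2
  exact absurd h.hbig (not_lt.2 hle)

theorem Hyp.inf_ne_bot (h : Hyp p P) (A B : Subgroup G) [A.Normal] [B.Normal] (hA : A ≠ ⊥) (hB : B ≠ ⊥) :
    A ⊓ B ≠ ⊥ := by
  apply h.inf_ne_bot_of_not_le A B
  · rw [Subgroup.normalizer_eq_top]; exact le_top
  · rw [Subgroup.normalizer_eq_top]; exact le_top
  · exact h.not_inf_le A hA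
  · exact h.not_inf_le B hB

end Cfsg.Agent.Helper23.S87

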