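import Mathlib
import Cfsg.Agent.Lib.S87.S87Defs
import Cfsg.Agent.Lib.S87.S87Uniq

/-!
# S4587 farm, piece S87-NA0 (design helper23)

`C_G(N) = 1` for a nonabelian minimal normal `N`. `N` is normal (`hN.min.normal`), so `C := centralizer N` is normal
(`Subgroup.normal_centralizer`-type instance, or by hand). If `C ≠ ⊥` then `N ⊓ C ≠ ⊥` (`Hyp.inf_ne_bot`, S87Uniq; `N ≠ ⊥` is `hN.min.1`);
`N ⊓ C` is normal and `≤ N`, so `= N` (`hN.min.eq_of_normal`), i.e. `N ≤ C`, i.e. `N` is commutative — against `hN.na`.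
-/

set_option autoImplicit false

namespace Cfsg.Agent.Helper23.S87

open Cfsg.Agent.Helper15.ZStarMin

universe u

variable {G : Type u} [Group G] [Finite G] {p : ℕ} [Fact p.Prime] {P : Sylow p G}
  {N L K : Subgroup G} {y : G}

theorem NonAb.centralizer_eq_bot (h : Hyp p P) (hN : NonAb N) :
    Subgroup.centralizer (N : Set G) = ⊥ := by
  have hNn : N.Normal := hN.min.normal
  have hCn : (Subgroup.centralizer (N : Set G)).Normal := Subgroup.normal_centralizer (H := N)
  by_contra hC
  have hne : N ⊓ Subgroup.centralizer (N : Set G) ≠ ⊥ :=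
    h.inf_ne_bot N (Subgroup.centralizer (N : Set G)) hN.min.1 hC
  have hnorm : (N ⊓ Subgroup.centralizer (N : Set G)).Normal := Subgroup.normal_inf_normal _ _
  have heq : N ⊓ Subgroup.centralizer (N : Set G) = N :=
    hN.min.eq_of_normal hnorm inf_le_left hne
  have hle : N ≤ Subgroup.centralizer (N : Set G) := inf_eq_left.mp heq
  apply hN.na
  intro a ha b hb
  exact ((Subgroup.mem_centralizer_iff.mp (hle hb)) a ha)

end Cfsg.Agent.Helper23.S87

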