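import Mathlib
import Cfsg.Agent.Lib.S87.S87Defs
import Cfsg.Agent.Lib.S87.S87Na0

/-!
# S4587 farm, piece S87-EXL (design helper23)

`exists_isMinInv_le (K := N) (M := N) hN.min.1 Subgroup.le_normalizer` gives `L ≤ N` with `IsMinInv N L`, so `MinIn N L`.
If `L = N`: `IsMinInv N N` says every nontrivial `N`-invariant `M ≤ N` equals `N`; so `↥N` is simple
(`IsSimpleGroup`: nontrivial as `N ≠ ⊥`; a normal `H : Subgroup ↥N` has `H.map N.subtype ≤ N` normalized by `N`, so it is `⊥` or `N`,
i.e. `H = ⊥` or `H = ⊤`). `N` is normal (`hN.min.normal`), not commutative (`IsMulCommutative ↥N` would give `hN.na` false: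
`mul_comm'`/`IsMulCommutative.is_comm.comm`), and `centralizer N = ⊥` (`NonAb.centralizer_eq_bot h hN`, S87Na0). This contradicts `hnas`.
-/

set_option autoImplicit false

namespace Cfsg.Agent.Helper23.S87

open Cfsg.Agent.Helper15.ZStarMin

universe u

variable {G : Type u} [Group G] [Finite G] {p : ℕ} [Fact p.Prime] {P : Sylow p G}
  {N L K : Subgroup G} {y : G}

theorem NonAb.exists_minIn_ne (h : Hyp p P) (hN : NonAb N)
    (hnas : ¬ ∃ S : Subgroup G, S.Normal ∧ IsSimpleGroup S ∧ ¬ IsMulCommutative S ∧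
      Subgroup.centralizer (S : Set G) = ⊥) :
    ∃ L : Subgroup G, MinIn N L ∧ L ≠ N := by
  obtain ⟨L, hLN, hL⟩ := exists_isMinInv_le (K := N) (M := N) hN.min.1 Subgroup.le_normalizer
  refine ⟨L, ⟨hL, hLN⟩, ?_⟩
  intro hLeq
  rw [hLeq] at hL
  apply hnas
  haveI hNn : N.Normal := hN.min.normal
  haveI hnt : Nontrivial ↥N := (Subgroup.nontrivial_iff_ne_bot N).mpr hN.min.1
  refine ⟨N, hNn, ?_, ?_, NonAb.centralizer_eq_bot h hN⟩
  · refine { toNontrivial := hnt, eq_bot_or_eq_top_of_normal := ?_ }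
    intro H hH
    have hMN : H.map N.subtype ≤ N := by
      rintro _ ⟨x, -, rfl⟩
      exact x.2
    have hnorm : N ≤ Subgroup.normalizer ((H.map N.subtype : Subgroup G) : Set G) := by
      intro n hn
      rw [Subgroup.mem_normalizer_iff]
      intro x
      constructor
      · rintro ⟨k, hk, rfl⟩
        exact ⟨⟨n, hn⟩ * k * ⟨n, hn⟩⁻¹, hH.conj_mem k hk ⟨n, hn⟩, rfl⟩
      · rintro ⟨k, hk, hkx⟩
        refine ⟨⟨n, hn⟩⁻¹ * k * ⟨n, hn⟩, ?_, ?_⟩
        · have := hH.conj_mem k hk (⟨n, hn⟩⁻¹)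
          simpa using this
        · have e : (N.subtype k : G) = n * x * n⁻¹ := hkx
          show (n : G)⁻¹ * (k : G) * n = x
          have e' : (k : G) = n * x * n⁻¹ := e
          rw [e']
          group
    by_cases hbot : H.map N.subtype = ⊥
    · left
      exact (Subgroup.map_eq_bot_iff_of_injective H N.subtype_injective).mp hbot
    · right
      have hEq : H.map N.subtype = N := hL.2.2 _ hnorm hMN hbot
      rw [eq_top_iff]
      intro x _
      have hx : (x : G) ∈ H.map N.subtype := by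
        rw [hEq]
        exact x.2
      obtain ⟨k, hk, hkx⟩ := hx
      have : k = x := Subtype.ext hkx
      rw [← this]
      exact hk
  · intro hc
    apply hN.na
    intro a ha b hb
    have := hc.is_comm.comm (⟨a, ha⟩ : ↥N) ⟨b, hb⟩
    exact congrArg Subtype.val this

end Cfsg.Agent.Helper23.S87

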