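import Mathlib
import Cfsg.Agent.Lib.S87.S87Defs

/-!
# S4587 farm, piece S87-GEN (design helper23)

The conjugates of a nontrivial `K ≤ N` generate the minimal normal subgroup `N`.
`Subgroup.normalClosure (K : Set G)` is normal, nontrivial (contains `K`, `Subgroup.subset_normalClosure`), and `≤ N`
(`Subgroup.normalClosure_le_normal`, `N` normal by `hN.min.normal`), so equals `N` (`hN.min.eq_of_normal`). And
`normalClosure K ≤ H`: it is `Subgroup.closure (Group.conjugatesOfSet K)`; each conjugate `g * k * g⁻¹` lies in `cj g K ≤ H`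
(`conj_mem_cj`, `Group.mem_conjugatesOfSet_iff`, `isConj_iff`).
-/

set_option autoImplicit false

namespace Cfsg.Agent.Helper23.S87

open Cfsg.Agent.Helper15.ZStarMin

universe u

variable {G : Type u} [Group G] [Finite G] {p : ℕ} [Fact p.Prime] {P : Sylow p G}
  {N L K : Subgroup G} {y : G}

theorem NonAb.le_of_forall_cj_le (hN : NonAb N) (K : Subgroup G) (hKN : K ≤ N) (hK0 : K ≠ ⊥)
    (H : Subgroup G) (hH : ∀ g : G, cj g K ≤ H) : N ≤ H := by
  have hNn : N.Normal := hN.min.normal
  have hsub : K ≤ Subgroup.normalClosure (K : Set G) := Subgroup.subset_normalClosure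
  have hle : Subgroup.normalClosure (K : Set G) ≤ N := Subgroup.normalClosure_le_normal hKN
  have hne : Subgroup.normalClosure (K : Set G) ≠ ⊥ := by
    intro h0
    apply hK0
    rw [eq_bot_iff, ← h0]
    exact hsub
  have heq : Subgroup.normalClosure (K : Set G) = N :=
    hN.min.eq_of_normal Subgroup.normalClosure_normal hle hne
  rw [← heq]
  unfold Subgroup.normalClosure
  rw [Subgroup.closure_le]
  intro x hx
  obtain ⟨k, hk, hconj⟩ := Group.mem_conjugatesOfSet_iff.mp hx
  obtain ⟨g, hg⟩ := isConj_iff.mp hconj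
  rw [← hg]
  exact hH g (conj_mem_cj hk)

end Cfsg.Agent.Helper23.S87

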