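import Mathlib
import Cfsg.Agent.Lib.S87.S87Defs
import Cfsg.Agent.Lib.Helper1.Tate

/-!
# S4587 farm, piece S87-INV (design helper23)

`O^p(K)` is characteristic in `K`.
* `normalizer_le_normalizer_map_pResidual`: for `g` normalizing `K`, conjugation by `g` restricts to `e : ↥K ≃* ↥K`;
  `Cfsg.Agent.Helper25.map_pResidual_equiv p e : (pResidual p ↥K).map e.toMonoidHom = pResidual p ↥K` (Lib/Helper25/PResidual.lean);
  compare the proof of `Cfsg.Agent.Helper1.map_pResidual_normal` (Lib/Helper1/Tate.lean) which does the normal case.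
* `isPGroup_of_pResidual_eq_bot`: `Cfsg.Agent.Helper22.isPGroup_quotient_pResidual` (Lib/Helper22/PResidual.lean; the quotient
  by `pResidual` is a `p`-group; normality `Helper22.pResidual_normal`) and `K ⧸ ⊥ ≃* K` (`QuotientGroup.quotientBot`), or directly:
  every `g` has `g ^ p ^ k ∈ pResidual = ⊥`.
-/

set_option autoImplicit false

namespace Cfsg.Agent.Helper23.S87

open Cfsg.Agent.Helper15.ZStarMin

universe u

variable {G : Type u} [Group G] [Finite G] {p : ℕ} [Fact p.Prime] {P : Sylow p G}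
  {N L K : Subgroup G} {y : G}

theorem normalizer_le_normalizer_map_pResidual (p : ℕ) (K : Subgroup G) :
    Subgroup.normalizer (K : Set G) ≤
      Subgroup.normalizer ((((Cfsg.pResidual p ↥K).map K.subtype : Subgroup G)) : Set G) := by
  intro g hg
  obtain ⟨e, he⟩ : ∃ e : ↥K ≃* ↥K, ∀ x : ↥K, ((e x : ↥K) : G) = g * (x : G) * g⁻¹ :=
    ⟨K.normalizerMonoidHom ⟨g, hg⟩, fun x => rfl⟩
  have h1 := Cfsg.Agent.Helper25.map_pResidual_equiv p e
  have h2 := Cfsg.Agent.Helper25.map_pResidual_equiv p e.symm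
  rw [Subgroup.mem_normalizer_iff]
  intro h
  constructor
  · rintro ⟨n, hn, rfl⟩
    have h3 : e n ∈ Cfsg.pResidual p ↥K := by
      rw [← h1]
      exact ⟨n, hn, rfl⟩
    exact ⟨e n, h3, he n⟩
  · rintro ⟨n', hn', hn'eq⟩
    have h3 : e.symm n' ∈ Cfsg.pResidual p ↥K := by
      rw [← h2]
      exact ⟨n', hn', rfl⟩
    refine ⟨e.symm n', h3, ?_⟩
    have h4 : ((e (e.symm n') : ↥K) : G) = g * ((e.symm n' : ↥K) : G) * g⁻¹ := he (e.symm n')
    rw [MulEquiv.apply_symm_apply] at h4
    have h5 : (K.subtype n' : G) = (n' : G) := rfl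
    rw [h5, h4] at hn'eq
    have h6 : ((e.symm n' : ↥K) : G) = h := by
      have := mul_left_cancel (mul_right_cancel hn'eq)
      exact this
    exact h6

theorem isPGroup_of_pResidual_eq_bot (K : Subgroup G) (h : Cfsg.pResidual p ↥K = ⊥) : IsPGroup p ↥K := by
  intro g
  obtain ⟨a, ha⟩ := Cfsg.Agent.Helper22.exists_pow_mem_pResidual (p := p) g
  rw [h] at ha
  exact ⟨a, Subgroup.mem_bot.mp ha⟩

end Cfsg.Agent.Helper23.S87

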