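import Mathlib
import Cfsg.Agent.Lib.S87.S87Defs

/-!
# S4587 farm, piece S87-M2 (design helper23)

Two distinct minimal `N`-invariant subgroups `L, K` of `N` meet trivially and commute elementwise.
`L ⊓ K` is `N`-invariant (`N ≤ normalizer L ⊓ normalizer K ≤ normalizer (L ⊓ K)`; prove by `Subgroup.mem_normalizer_iff`), `≤ L`
and `≤ K`; if `≠ ⊥` minimality of both gives `L ⊓ K = L` and `= K`, so `L = K`.
Commute: for `a ∈ L`, `b ∈ K`: `a * b * a⁻¹ * b⁻¹ ∈ L` (as `b ∈ K ≤ N` normalizes `L`) and `∈ K` (as `a ∈ L ≤ N` normalizes `K`),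
so it is `1` (`commutatorElement_eq_one_iff_mul_comm` or by hand).
-/

set_option autoImplicit false

namespace Cfsg.Agent.Helper23.S87

open Cfsg.Agent.Helper15.ZStarMin

universe u

variable {G : Type u} [Group G] [Finite G] {p : ℕ} [Fact p.Prime] {P : Sylow p G}
  {N L K : Subgroup G} {y : G}

theorem MinIn.inf_eq_bot (hL : MinIn N L) (hK : MinIn N K) (hne : L ≠ K) : L ⊓ K = ⊥ := by
  by_contra hbot
  have hnorm : N ≤ Subgroup.normalizer ((L ⊓ K : Subgroup G) : Set G) := by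
    intro n hn
    have h1 := Subgroup.mem_normalizer_iff.mp (hL.1.2.1 hn)
    have h2 := Subgroup.mem_normalizer_iff.mp (hK.1.2.1 hn)
    rw [Subgroup.mem_normalizer_iff]
    intro x
    rw [Subgroup.mem_inf, Subgroup.mem_inf, h1 x, h2 x]
  have e1 : L ⊓ K = L := hL.1.2.2 _ hnorm inf_le_left hbot
  have e2 : L ⊓ K = K := hK.1.2.2 _ hnorm inf_le_right hbot
  exact hne (e1.symm.trans e2)

theorem MinIn.commute (hL : MinIn N L) (hK : MinIn N K) (hne : L ≠ K) :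
    ∀ a ∈ L, ∀ b ∈ K, a * b = b * a := by
  intro a ha b hb
  have hbot := MinIn.inf_eq_bot hL hK hne
  have haN : a ∈ N := hL.2 ha
  have hbN : b ∈ N := hK.2 hb
  -- `a b a⁻¹ b⁻¹ ∈ L ⊓ K`
  have h1 : a * b * a⁻¹ * b⁻¹ ∈ L := by
    have hb' := (Subgroup.mem_normalizer_iff.mp (hL.1.2.1 hbN) a⁻¹).mp (L.inv_mem ha)
    have e : a * b * a⁻¹ * b⁻¹ = a * (b * a⁻¹ * b⁻¹) := by group
    rw [e]
    exact L.mul_mem ha hb'
  have h2 : a * b * a⁻¹ * b⁻¹ ∈ K := by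
    have ha' := (Subgroup.mem_normalizer_iff.mp (hK.1.2.1 haN) b).mp hb
    exact K.mul_mem ha' (K.inv_mem hb)
  have h3 : a * b * a⁻¹ * b⁻¹ ∈ L ⊓ K := ⟨h1, h2⟩
  rw [hbot, Subgroup.mem_bot] at h3
  calc a * b = (a * b * a⁻¹ * b⁻¹) * (b * a) := by group
    _ = b * a := by rw [h3, one_mul]

end Cfsg.Agent.Helper23.S87

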