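import Mathlib
import Cfsg.Agent.Lib.S87.S87Defs
import Cfsg.Agent.Lib.S87.S87Na0
import Cfsg.Agent.Lib.S87.S87Min1
import Cfsg.Agent.Lib.S87.S87Min2
import Cfsg.Agent.Lib.S87.S87Gen

/-!
# S4587 farm, piece S87-M4 (design helper23)

A minimal `N`-invariant subgroup `L` of the nonabelian minimal normal `N` is not commutative.
Suppose it is. For every `g`, `cj g L ≤ centralizer L`: if `cj g L = L` by commutativity of `L`; otherwise `MinIn.commute`
(S87Min2) applied to `MinIn.conj hL g` (S87Min1, needs `haveI := hN.min.normal`) and `hL`. So `N ≤ centralizer L`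
(`NonAb.le_of_forall_cj_le hN L hL.2 hL.1.1`, S87Gen), i.e. `L ≤ centralizer N = ⊥` (`NonAb.centralizer_eq_bot h hN`, S87Na0), against `hL.1.1`.
-/

set_option autoImplicit false

namespace Cfsg.Agent.Helper23.S87

open Cfsg.Agent.Helper15.ZStarMin

universe u

variable {G : Type u} [Group G] [Finite G] {p : ℕ} [Fact p.Prime] {P : Sylow p G}
  {N L K : Subgroup G} {y : G}

theorem MinIn.not_comm (h : Hyp p P) (hN : NonAb N) (hL : MinIn N L) :
    ¬ ∀ a ∈ L, ∀ b ∈ L, a * b = b * a := by
  intro hcomm
  have : N.Normal := hN.min.normal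
  have hall : ∀ g : G, cj g L ≤ Subgroup.centralizer (L : Set G) := by
    intro g x hx
    rw [Subgroup.mem_centralizer_iff]
    intro b hb
    by_cases heq : cj g L = L
    · rw [heq] at hx
      exact hcomm b hb x hx
    · exact (MinIn.commute (hL.conj g) hL heq x hx b hb).symm
  have hNle : N ≤ Subgroup.centralizer (L : Set G) :=
    NonAb.le_of_forall_cj_le hN L hL.2 hL.1.1 _ hall
  have hLle : L ≤ Subgroup.centralizer (N : Set G) := by
    intro a ha
    rw [Subgroup.mem_centralizer_iff]
    intro n hn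
    exact ((Subgroup.mem_centralizer_iff.mp (hNle hn)) a ha).symm
  rw [NonAb.centralizer_eq_bot h hN] at hLle
  exact hL.1.1 (le_bot_iff.mp hLle)

end Cfsg.Agent.Helper23.S87

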