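import Mathlib
import Cfsg.Agent.Lib.S87.S87Defs
import Cfsg.Agent.Lib.S87.S87M4

/-!
# S4587 farm, piece S87-M5 (design helper23)

`Z(L) = L ⊓ centralizer L` is `N`-invariant (`N` normalizes `L`, hence also `centralizer L`), and `≤ L`. If it were `≠ ⊥`, minimality
(`hL.1.2.2`) gives `L ⊓ centralizer L = L`, so `L ≤ centralizer L`, i.e. `L` commutative, against `MinIn.not_comm h hN hL` (S87M4).
-/

set_option autoImplicit false

namespace Cfsg.Agent.Helper23.S87

open Cfsg.Agent.Helper15.ZStarMin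

universe u

variable {G : Type u} [Group G] [Finite G] {p : ℕ} [Fact p.Prime] {P : Sylow p G}
  {N L K : Subgroup G} {y : G}

theorem MinIn.inf_centralizer_eq_bot (h : Hyp p P) (hN : NonAb N) (hL : MinIn N L) :
    L ⊓ Subgroup.centralizer (L : Set G) = ⊥ := by
  by_contra hne
  have hconj : ∀ n ∈ Subgroup.normalizer (L : Set G), ∀ x ∈ L ⊓ Subgroup.centralizer (L : Set G),
      n * x * n⁻¹ ∈ L ⊓ Subgroup.centralizer (L : Set G) := by
    intro n hn x hx
    refine ⟨(Subgroup.mem_normalizer_iff.mp hn x).mp hx.1, ?_⟩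
    show n * x * n⁻¹ ∈ Subgroup.centralizer (L : Set G)
    rw [Subgroup.mem_centralizer_iff]
    intro l hl
    have hl' : n⁻¹ * l * n⁻¹⁻¹ ∈ L :=
      (Subgroup.mem_normalizer_iff.mp (Subgroup.inv_mem _ hn) l).mp hl
    have hc : n⁻¹ * l * n⁻¹⁻¹ * x = x * (n⁻¹ * l * n⁻¹⁻¹) :=
      Subgroup.mem_centralizer_iff.mp hx.2 _ hl'
    calc l * (n * x * n⁻¹) = n * (n⁻¹ * l * n⁻¹⁻¹ * x) * n⁻¹ := by group
      _ = n * (x * (n⁻¹ * l * n⁻¹⁻¹)) * n⁻¹ := by rw [hc]
      _ = n * x * n⁻¹ * l := by group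
  have hNZ : N ≤ Subgroup.normalizer ((L ⊓ Subgroup.centralizer (L : Set G) : Subgroup G) : Set G) := by
    intro n hn
    have hnL : n ∈ Subgroup.normalizer (L : Set G) := hL.1.2.1 hn
    rw [Subgroup.mem_normalizer_iff]
    intro x
    constructor
    · exact hconj n hnL x
    · intro hx
      have h1 := hconj n⁻¹ (Subgroup.inv_mem _ hnL) _ hx
      have e : n⁻¹ * (n * x * n⁻¹) * n⁻¹⁻¹ = x := by group
      rwa [e] at h1
  have heq := hL.1.2.2 _ hNZ inf_le_left hne
  apply MinIn.not_comm h hN hL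
  intro a ha b hb
  have hb' : b ∈ L ⊓ Subgroup.centralizer (L : Set G) := by
    rw [heq]
    exact hb
  exact Subgroup.mem_centralizer_iff.mp hb'.2 a ha

end Cfsg.Agent.Helper23.S87

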