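import Mathlib
import Cfsg.Agent.Lib.S87.S87Defs
import Cfsg.Agent.Lib.Helper9.PCoreSub

/-!
# S4587 farm, piece S87-NA2 (design helper23)

A nonabelian minimal normal subgroup `N` has no nontrivial `N`-invariant `p`-subgroup `M ≤ N`.
`M ⊴ N ⊴ G` is subnormal (`Subgroup.IsSubnormal.step M N hMN hNn.isSubnormal ((Subgroup.normal_subgroupOf_iff_le_normalizer hMN).mpr hNM)`,
as in `le_pPrimeCore_of_le_normal` of Lib/Helper15/ZStarMin2.lean), so `M ≤ O_p(G)` (`Cfsg.Agent.Helper9.subnormal_pGroup_le_pCore p M _ hp`,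
Lib/Helper9/PCoreSub.lean; `O_p(G)` is a normal `p`-subgroup: see that file / Lib/Helper15/PCore.lean `isPGroup_pCore`).
If `M ≠ ⊥`: `O_p(G) ⊓ N` is normal, `≤ N`, nontrivial, so `= N` (`hN.min.eq_of_normal`): `N` is a nontrivial `p`-group, its centre is
nontrivial (`IsPGroup.center_nontrivial`), and `Z := (Subgroup.center ↥N).map N.subtype` is characteristic in `N`, hence normal in `G`,
nontrivial, `≤ N`, so `Z = N`: `N` is commutative, against `hN.na`.
-/

set_option autoImplicit false

namespace Cfsg.Agent.Helper23.S87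

open Cfsg.Agent.Helper15.ZStarMin

universe u

variable {G : Type u} [Group G] [Finite G] {p : ℕ} [Fact p.Prime] {P : Sylow p G}
  {N L K : Subgroup G} {y : G}

theorem NonAb.eq_bot_of_isPGroup (hN : NonAb N) (M : Subgroup G) (hMN : M ≤ N)
    (hNM : N ≤ Subgroup.normalizer (M : Set G)) (hp : IsPGroup p ↥M) : M = ⊥ := by
  by_contra hMne
  haveI hNn : N.Normal := hN.min.normal
  have hsub : M.IsSubnormal := Subgroup.IsSubnormal.step M N hMN hNn.isSubnormal
    ((Subgroup.normal_subgroupOf_iff_le_normalizer hMN).mpr hNM)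
  have hMQ : M ≤ Cfsg.pCore p G := Cfsg.Agent.Helper9.subnormal_pGroup_le_pCore p M hsub hp
  haveI hQc : (Cfsg.pCore p G).Characteristic := Cfsg.Agent.Helper9.pCore_characteristic p
  have hQn : (Cfsg.pCore p G).Normal := inferInstance
  have hQp : IsPGroup p (Cfsg.pCore p G) := Cfsg.Agent.Helper9.pCore_isPGroup' p G
  have hinf : Cfsg.pCore p G ⊓ N = N := by
    refine hN.min.eq_of_normal (Subgroup.normal_inf_normal _ _) inf_le_right ?_
    intro h0
    apply hMne
    rw [eq_bot_iff, ← h0]
    exact le_inf hMQ hMN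
  have hNQ : N ≤ Cfsg.pCore p G := by rw [← hinf]; exact inf_le_left
  have hNp : IsPGroup p N := hQp.to_le hNQ
  have hNne : N ≠ ⊥ := hN.min.1
  haveI : Nontrivial N := (Subgroup.nontrivial_iff_ne_bot N).mpr hNne
  have hZ : Nontrivial (Subgroup.center ↥N) := hNp.center_nontrivial
  have hZn : ((Subgroup.center ↥N).map N.subtype).Normal := inferInstance
  have hZle : (Subgroup.center ↥N).map N.subtype ≤ N := Subgroup.map_subtype_le _
  have hZne : (Subgroup.center ↥N).map N.subtype ≠ ⊥ := by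
    intro h0
    rw [Subgroup.map_eq_bot_iff_of_injective _ N.subtype_injective] at h0
    exact ((Subgroup.nontrivial_iff_ne_bot _).mp hZ) h0
  have hZeq := hN.min.eq_of_normal hZn hZle hZne
  apply hN.na
  intro a ha b hb
  rw [← hZeq] at ha
  obtain ⟨z, hz, rfl⟩ := ha
  have h1 := Subgroup.mem_center_iff.mp hz ⟨b, hb⟩
  have h2 := congrArg Subtype.val h1
  simpa using h2.symm

end Cfsg.Agent.Helper23.S87

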