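import Mathlib
import Cfsg.Agent.Lib.S87.S87Defs
import Cfsg.Agent.Lib.S87.S87Tate
import Cfsg.Agent.Lib.S87.S87Inv
import Cfsg.Agent.Lib.S87.S87Na2
import Cfsg.Agent.Lib.S87.S87Cop

/-!
# S4587 farm, piece S87-TSTAR (design helper23)

Suppose `K ⊓ P ≤ ⁅P,P⁆`. `not_dvd_card_pResidual_of_inf_le P K hPK _` (S87Tate) gives `p ∤ |O^p(K)|`. Let
`R := (pResidual p ↥K).map K.subtype ≤ K ≤ N`; it is `N`-invariant (`normalizer_le_normalizer_map_pResidual p K`, S87Inv, after `hNK`)
and `|R| = |pResidual p ↥K|` (`Subgroup.card_map_of_injective`/`Nat.card_congr`) is prime to `p`, so `R = ⊥`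
(`Hyp.eq_bot_of_coprime h N R`, S87Cop; `haveI := hN.min.normal`). Hence `pResidual p ↥K = ⊥` (`Subgroup.map_eq_bot_iff_of_injective`), `K` is a `p`-group
(`isPGroup_of_pResidual_eq_bot`, S87Inv) and `K = ⊥` by `NonAb.eq_bot_of_isPGroup hN K hKN hNK` (S87Na2), against `hK0`.
-/

set_option autoImplicit false

namespace Cfsg.Agent.Helper23.S87

open Cfsg.Agent.Helper15.ZStarMin

universe u

variable {G : Type u} [Group G] [Finite G] {p : ℕ} [Fact p.Prime] {P : Sylow p G}
  {N L K : Subgroup G} {y : G}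

theorem NonAb.not_inf_le (h : Hyp p P) (hN : NonAb N) (K : Subgroup G) (hKN : K ≤ N) (hK0 : K ≠ ⊥)
    (hNK : N ≤ Subgroup.normalizer (K : Set G))
    (hPK : (P : Subgroup G) ≤ Subgroup.normalizer (K : Set G)) :
    ¬ K ⊓ (P : Subgroup G) ≤ ⁅(P : Subgroup G), (P : Subgroup G)⁆ := by
  intro hle
  have hp : p.Prime := Fact.out
  have hnd : ¬ p ∣ Nat.card (Cfsg.pResidual p ↥K) :=
    not_dvd_card_pResidual_of_inf_le P K hPK hle
  have hNn : N.Normal := hN.min.normal
  -- R := image of O^p(K) in G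
  have hRK : (Cfsg.pResidual p ↥K).map K.subtype ≤ K := by
    intro x hx
    obtain ⟨k, -, rfl⟩ := Subgroup.mem_map.mp hx
    exact k.2
  have hRN : (Cfsg.pResidual p ↥K).map K.subtype ≤ N := hRK.trans hKN
  have hNR : N ≤ Subgroup.normalizer
      ((((Cfsg.pResidual p ↥K).map K.subtype : Subgroup G)) : Set G) :=
    hNK.trans (normalizer_le_normalizer_map_pResidual p K)
  have hcard : Nat.card ↥((Cfsg.pResidual p ↥K).map K.subtype) =
      Nat.card ↥(Cfsg.pResidual p ↥K) :=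
    Subgroup.card_map_of_injective K.subtype_injective
  have hcop : (Nat.card ↥((Cfsg.pResidual p ↥K).map K.subtype)).Coprime p := by
    rw [hcard]
    exact ((Nat.Prime.coprime_iff_not_dvd hp).mpr hnd).symm
  have hRbot : (Cfsg.pResidual p ↥K).map K.subtype = ⊥ :=
    Hyp.eq_bot_of_coprime h N _ hRN hNR hcop
  have hres : Cfsg.pResidual p ↥K = ⊥ :=
    (Subgroup.map_eq_bot_iff_of_injective _ K.subtype_injective).mp hRbot
  have hKp : IsPGroup p ↥K := isPGroup_of_pResidual_eq_bot K hres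
  exact hK0 (NonAb.eq_bot_of_isPGroup hN K hKN hNK hKp)

end Cfsg.Agent.Helper23.S87

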