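import Mathlib
import Cfsg.Agent.Lib.S87.S87Defs
import Cfsg.Agent.Lib.S87.S87Min1
import Cfsg.Agent.Lib.S87.S87Min2
import Cfsg.Agent.Lib.S87.S87Tstar
import Cfsg.Agent.Lib.S87.S87Uniq
import Cfsg.Agent.Lib.S87.S87Cj

/-!
# S4587 farm, piece S87-MOVED (design helper23)

Some `y ∈ P` moves some minimal `N`-invariant subgroup. `Cfg` is the structure of S87Defs (fields hyp, nonab, minIn, hyP, hyL).
By contradiction (`by_contra hno; push_neg`-style): assume every `y ∈ P` normalizes every `L'` with `MinIn N L'`.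
`L` is not normal in `G`: otherwise `L = N` by `hN.min.eq_of_normal` (`hL.2 : L ≤ N`, `hL.1.1 : L ≠ ⊥`), against `hLN`. So some `g` has
`cj g L ≠ L` (`cj_eq_self_iff`, S87Cj; `Subgroup.normalizer_eq_top_iff`). `L₁ := L`, `L₂ := cj g L` are both `MinIn N` (`MinIn.conj`), distinct,
`P ≤ normalizer Lᵢ` by assumption, `N ≤ normalizer Lᵢ`, `Lᵢ ≤ N`, `Lᵢ ≠ ⊥`. `NonAb.not_inf_le h hN Lᵢ ..` (S87Tstar) and
`Hyp.inf_ne_bot_of_not_le h L₁ L₂ ..` (S87Uniq) give `L₁ ⊓ L₂ ≠ ⊥`, against `MinIn.inf_eq_bot` (S87Min2).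
-/

set_option autoImplicit false

namespace Cfsg.Agent.Helper23.S87

open Cfsg.Agent.Helper15.ZStarMin

universe u

variable {G : Type u} [Group G] [Finite G] {p : ℕ} [Fact p.Prime] {P : Sylow p G}
  {N L K : Subgroup G} {y : G}

theorem NonAb.exists_cfg (h : Hyp p P) (hN : NonAb N) (L : Subgroup G) (hL : MinIn N L) (hLN : L ≠ N) :
    ∃ (L' : Subgroup G) (y : G), Cfg p P N L' y := by
  by_contra hno
  have hall : ∀ L' : Subgroup G, MinIn N L' →
      (P : Subgroup G) ≤ Subgroup.normalizer (L' : Set G) := by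
    intro L' hL' y hy
    by_contra hyn
    exact hno ⟨L', y, ⟨h, hN, hL', hy, hyn⟩⟩
  have hNn : N.Normal := hN.min.normal
  have hLnn : ¬ L.Normal := by
    intro hLn
    exact hLN (hN.min.eq_of_normal hLn hL.2 hL.1.1)
  have hex : ∃ g : G, cj g L ≠ L := by
    by_contra hng
    push Not at hng
    apply hLnn
    rw [← Subgroup.normalizer_eq_top_iff, eq_top_iff]
    intro g _
    exact cj_eq_self_iff.mp (hng g)
  obtain ⟨g, hg⟩ := hex
  have hL2 : MinIn N (cj g L) := MinIn.conj hL g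
  have h1 := NonAb.not_inf_le h hN L hL.2 hL.1.1 hL.1.2.1 (hall L hL)
  have h2 := NonAb.not_inf_le h hN (cj g L) hL2.2 hL2.1.1 hL2.1.2.1 (hall _ hL2)
  have h3 := Hyp.inf_ne_bot_of_not_le h L (cj g L) (hall L hL) (hall _ hL2) h1 h2
  exact h3 (MinIn.inf_eq_bot hL hL2 (Ne.symm hg))

end Cfsg.Agent.Helper23.S87

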