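import Mathlib
import Cfsg.Agent.Lib.S87.S87Defs

/-!
# S4587 farm, piece S87-RELP (design helper23)

Index bookkeeping inside the Sylow subgroup `P` (`|P| = p^n`, `IsPGroup.iff_card`, `P.2`).
* `relIndex_eq_prime`: `A.relIndex P` divides `|P|` (`Subgroup.relIndex_dvd_card`), so it is `p^k` (`Nat.dvd_prime_pow`);
  `≤ p` forces `k ≤ 1`, and `k = 0` gives `relIndex = 1`, i.e. `P ≤ A` (`Subgroup.relIndex_eq_one`).
* `le_of_relIndex`: `A.relIndex P = A.relIndex B * B.relIndex P` (`Subgroup.relIndex_mul_relIndex`), so `A.relIndex B * p ≤ p`,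
  `A.relIndex B ≠ 0` (finite), hence `= 1`, i.e. `B ≤ A`.
-/

set_option autoImplicit false

namespace Cfsg.Agent.Helper23.S87

open Cfsg.Agent.Helper15.ZStarMin

universe u

variable {G : Type u} [Group G] [Finite G] {p : ℕ} [Fact p.Prime] {P : Sylow p G}
  {N L K : Subgroup G} {y : G}

theorem relIndex_eq_prime (P : Sylow p G) (A : Subgroup G)
    (hle : A.relIndex (P : Subgroup G) ≤ p) (hne : ¬ (P : Subgroup G) ≤ A) :
    A.relIndex (P : Subgroup G) = p := by
  have hp : p.Prime := Fact.out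
  obtain ⟨n, hn⟩ := IsPGroup.iff_card.mp P.2
  have hdvd : A.relIndex (P : Subgroup G) ∣ p ^ n := by
    rw [← hn]
    exact Subgroup.relIndex_dvd_card A (P : Subgroup G)
  obtain ⟨k, -, hk⟩ := (Nat.dvd_prime_pow hp).mp hdvd
  rw [hk] at hle ⊢
  rcases k with _ | _ | k
  · exfalso
    apply hne
    rw [← Subgroup.relIndex_eq_one, hk, pow_zero]
  · rw [zero_add, pow_one]
  · exfalso
    have h2 : p ^ 2 ≤ p ^ (k + 1 + 1) := Nat.pow_le_pow_right hp.pos (by omega)
    have h3 : p < p ^ 2 := by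
      have := hp.one_lt
      nlinarith
    omega

theorem le_of_relIndex (P : Sylow p G) (A B : Subgroup G) (hAB : A ≤ B) (hBP : B ≤ (P : Subgroup G))
    (hA : A.relIndex (P : Subgroup G) ≤ p) (hB : B.relIndex (P : Subgroup G) = p) : B ≤ A := by
  have hmul := Subgroup.relIndex_mul_relIndex A B (P : Subgroup G) hAB hBP
  rw [hB] at hmul
  have hp : p.Prime := Fact.out
  have hne : A.relIndex B ≠ 0 := by
    rw [Subgroup.relIndex]
    exact Subgroup.index_ne_zero_of_finite
  have h1 : A.relIndex B = 1 := by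
    have hle : A.relIndex B * p ≤ 1 * p := by
      rw [hmul, one_mul]
      exact hA
    have := Nat.le_of_mul_le_mul_right hle hp.pos
    omega
  exact Subgroup.relIndex_eq_one.mp h1

end Cfsg.Agent.Helper23.S87

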