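import Mathlib
import Cfsg.Agent.Lib.S87.S87Defs
import Cfsg.Agent.Lib.S87.S87Star
import Cfsg.Agent.Lib.S87.S87Idx
import Cfsg.Agent.Lib.S87.S87Relp

/-!
# S4587 farm, piece S87-STABA (design helper23)

`c : Cfg p P N L y` (fields `c.hyp : Hyp p P`, `c.nonab : NonAb N`, `c.minIn : MinIn N L`, `c.hyP : y ∈ P`, `c.hyL : y ∉ normalizer L`).
* `Cfg.not_mem`: `y ∈ N` would normalize `L` (`c.minIn.1.2.1 : N ≤ normalizer L`).
* `Cfg.relIndex_eq`: `N` normal (`c.nonab.min.normal`), nontrivial; `Hyp.not_inf_le` (S87Star) + `Hyp.relIndex_le` (S87Idx, normalizer of a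
  normal subgroup is `⊤`) give `≤ p`; `¬ P ≤ N ⊓ P` since `y ∈ P`, `y ∉ N`; conclude with `relIndex_eq_prime` (S87Relp).
* `Cfg.sup_zpowers`: `B := (N ⊓ P) ⊔ zpowers y ≤ P`; `N ⊓ P ≤ B`; `(N⊓P).relIndex P = (N⊓P).relIndex B * B.relIndex P`
  (`Subgroup.relIndex_mul_relIndex`), `p` prime, and `(N⊓P).relIndex B ≠ 1` (`y ∈ B`, `y ∉ N ⊓ P`; `Subgroup.relIndex_eq_one`) force `B.relIndex P = 1`,
  i.e. `P ≤ B`.
-/

set_option autoImplicit false

namespace Cfsg.Agent.Helper23.S87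

open Cfsg.Agent.Helper15.ZStarMin

universe u

variable {G : Type u} [Group G] [Finite G] {p : ℕ} [Fact p.Prime] {P : Sylow p G}
  {N L K : Subgroup G} {y : G}

theorem Cfg.not_mem (c : Cfg p P N L y) : y ∉ N := by
  intro hyN
  exact c.hyL (c.minIn.1.2.1 hyN)

theorem Cfg.relIndex_eq (c : Cfg p P N L y) :
    (N ⊓ (P : Subgroup G)).relIndex (P : Subgroup G) = p := by
  have : N.Normal := c.nonab.min.normal
  have hNne : N ≠ ⊥ := c.nonab.min.1
  have h1 := c.hyp.not_inf_le N hNne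
  have hPn : (P : Subgroup G) ≤ Subgroup.normalizer (N : Set G) := by
    rw [Subgroup.normalizer_eq_top]
    exact le_top
  have h2 := c.hyp.relIndex_le N hPn h1
  refine relIndex_eq_prime P _ h2 ?_
  intro hle
  exact c.not_mem (hle c.hyP).1

theorem Cfg.sup_zpowers (c : Cfg p P N L y) :
    (N ⊓ (P : Subgroup G)) ⊔ Subgroup.zpowers y = (P : Subgroup G) := by
  have hBP : (N ⊓ (P : Subgroup G)) ⊔ Subgroup.zpowers y ≤ (P : Subgroup G) :=
    sup_le inf_le_right (by rw [Subgroup.zpowers_le]; exact c.hyP)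
  have hAB : N ⊓ (P : Subgroup G) ≤ (N ⊓ (P : Subgroup G)) ⊔ Subgroup.zpowers y := le_sup_left
  have hmul := Subgroup.relIndex_mul_relIndex (N ⊓ (P : Subgroup G))
    ((N ⊓ (P : Subgroup G)) ⊔ Subgroup.zpowers y) (P : Subgroup G) hAB hBP
  rw [c.relIndex_eq] at hmul
  have hyB : y ∈ (N ⊓ (P : Subgroup G)) ⊔ Subgroup.zpowers y :=
    (le_sup_right : Subgroup.zpowers y ≤ _) (Subgroup.mem_zpowers y)
  have hne1 : (N ⊓ (P : Subgroup G)).relIndex ((N ⊓ (P : Subgroup G)) ⊔ Subgroup.zpowers y) ≠ 1 := by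
    rw [Ne, Subgroup.relIndex_eq_one]
    intro hle
    exact c.not_mem (hle hyB).1
  have hp : p.Prime := Fact.out
  have h3 : ((N ⊓ (P : Subgroup G)) ⊔ Subgroup.zpowers y).relIndex (P : Subgroup G) = 1 := by
    rcases (Nat.dvd_prime hp).mp (Dvd.intro _ hmul) with h | h
    · exact absurd h hne1
    · rw [h] at hmul
      exact Nat.eq_of_mul_eq_mul_left hp.pos (by rw [hmul, mul_one])
  exact le_antisymm hBP (Subgroup.relIndex_eq_one.mp h3)

end Cfsg.Agent.Helper23.S87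

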