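import Mathlib
import Cfsg.Agent.Lib.S87.S87Defs
import Cfsg.Agent.Lib.S87.S87Tstar
import Cfsg.Agent.Lib.S87.S87Idx
import Cfsg.Agent.Lib.S87.S87Staba
import Cfsg.Agent.Lib.S87.S87Min1
import Cfsg.Agent.Lib.S87.S87Cj
import Cfsg.Agent.Lib.S87.S87Relp

/-!
# S4587 farm, piece S87-RM (design helper23)

`M := Msup y L = ⨆ i : ℤ, cj (y^i) L` (S87Defs). `haveI := c.nonab.min.normal`.
* `M ≤ N` (`iSup_le`, each `(MinIn.conj c.minIn _).2`); `M ≠ ⊥` (contains `cj (y^0) L = L ≠ ⊥`).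
* `N ≤ normalizer M`: for `n ∈ N`, `cj n (cj (y^i) L) = cj (y^i) L` (`cj_eq_self_iff` + `(MinIn.conj ..).1.2.1`), so `cj n M = M` (`cj_iSup`).
* `cj y M = M`: `cj y (cj (y^i) L) = cj (y^(i+1)) L` (`cj_mul`, `zpow_one_add`/`zpow_add_one`), reindex the `iSup` by the shift
  `(Equiv.addRight (1:ℤ)).iSup_comp`/`Equiv.iSup_congr`. Hence `zpowers y ≤ normalizer M`, and with `Cfg.sup_zpowers` (S87Staba)
  `P = (N ⊓ P) ⊔ zpowers y ≤ normalizer M`.
* `NonAb.not_inf_le c.hyp c.nonab M ..` (S87Tstar) and `Hyp.relIndex_le` (S87Idx) give `(M ⊓ P).relIndex P ≤ p`; with `M ⊓ P ≤ N ⊓ P`,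
  `Cfg.relIndex_eq` and `le_of_relIndex` (S87Relp) get `N ⊓ P ≤ M ⊓ P ≤ M`.
-/

set_option autoImplicit false

namespace Cfsg.Agent.Helper23.S87

open Cfsg.Agent.Helper15.ZStarMin

universe u

variable {G : Type u} [Group G] [Finite G] {p : ℕ} [Fact p.Prime] {P : Sylow p G}
  {N L K : Subgroup G} {y : G}

theorem Cfg.inf_le_Msup (c : Cfg p P N L y) : N ⊓ (P : Subgroup G) ≤ Msup y L := by
  haveI : N.Normal := c.nonab.min.normal
  have hL : MinIn N L := c.minIn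
  have hMN : Msup y L ≤ N := iSup_le (fun i => (MinIn.conj hL (y ^ i)).2)
  have hL0 : L ≠ ⊥ := hL.1.1
  have hLM : L ≤ Msup y L := by
    have h0 := le_iSup (fun i : ℤ => cj (y ^ i) L) 0
    have e : cj (y ^ (0 : ℤ)) L = L := by rw [zpow_zero, cj_one]
    rw [e] at h0
    exact h0
  have hM0 : Msup y L ≠ ⊥ := by
    intro h
    rw [h] at hLM
    exact hL0 (le_bot_iff.mp hLM)
  have hNM : N ≤ Subgroup.normalizer (Msup y L : Set G) := by
    intro n hn
    rw [← cj_eq_self_iff]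
    unfold Msup
    rw [cj_iSup]
    refine iSup_congr (fun i => ?_)
    exact cj_eq_self_iff.mpr ((MinIn.conj hL (y ^ i)).1.2.1 hn)
  have hyM : cj y (Msup y L) = Msup y L := by
    unfold Msup
    rw [cj_iSup]
    have hshift : ∀ i : ℤ, cj y (cj (y ^ i) L) = cj (y ^ (i + 1)) L := by
      intro i
      rw [← cj_mul, add_comm, zpow_one_add]
    have e1 : (⨆ i : ℤ, cj y (cj (y ^ i) L)) = ⨆ i : ℤ, cj (y ^ (i + 1)) L :=
      iSup_congr hshift
    rw [e1]
    exact (Equiv.addRight (1 : ℤ)).iSup_comp (g := fun i : ℤ => cj (y ^ i) L)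
  have hy : y ∈ Subgroup.normalizer (Msup y L : Set G) := cj_eq_self_iff.mp hyM
  have hzp : Subgroup.zpowers y ≤ Subgroup.normalizer (Msup y L : Set G) :=
    (Subgroup.zpowers_le).mpr hy
  have hPM : (P : Subgroup G) ≤ Subgroup.normalizer (Msup y L : Set G) := by
    rw [← c.sup_zpowers]
    exact sup_le (inf_le_left.trans hNM) hzp
  have h1 := NonAb.not_inf_le c.hyp c.nonab (Msup y L) hMN hM0 hNM hPM
  have h2 := Hyp.relIndex_le c.hyp (Msup y L) hPM h1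
  have hle : Msup y L ⊓ (P : Subgroup G) ≤ N ⊓ (P : Subgroup G) := inf_le_inf_right _ hMN
  have h3 := le_of_relIndex P (Msup y L ⊓ (P : Subgroup G)) (N ⊓ (P : Subgroup G)) hle
    inf_le_right h2 c.relIndex_eq
  exact h3.trans inf_le_left

end Cfsg.Agent.Helper23.S87

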