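import Mathlib
import Cfsg.Agent.Lib.S87.S87Defs
import Cfsg.Agent.Lib.Helper24.BG101B

/-!
# S4587 farm, piece S87-SYLS (design helper23)

`K ⊴ N ⊴ G` (so `K` is subnormal): `K ∩ P` is a Sylow `p`-subgroup of `K`.
Math: `N ∩ P` has index in `N` equal to `[NP : P]`, prime to `p` (N normal, `NP` a subgroup; `Subgroup.relIndex_sup_right`-type
lemmas or the product formula `|NP| |N∩P| = |N| |P|`); then inside `N` the same argument with `K ⊴ N` and the subgroup `N ∩ P` of `N`:
`[K : K ∩ P] = [K (N∩P) : N∩P]` divides `[N : N∩P]`. So `|K ∩ P|` is a power of `p` (subgroup of `P`) with `p ∤ [K : K∩P]`,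
hence `|K∩P| = p^(v_p |K|)`. (An alternative for the first step: `Sylow` theory for the normal subgroup `N`:
every Sylow of `N` is `N ∩ Q` for a Sylow `Q` of `G`, conjugate Sylows, `N` normal.)
`inf_sylow_ne_bot` follows: `p ∣ |K|` gives exponent `≥ 1`, so `|K ∩ P| ≥ p > 1`.
-/

set_option autoImplicit false

namespace Cfsg.Agent.Helper23.S87

open Cfsg.Agent.Helper15.ZStarMin

universe u

variable {G : Type u} [Group G] [Finite G] {p : ℕ} [Fact p.Prime] {P : Sylow p G}
  {N L K : Subgroup G} {y : G}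

/-- `p ∤ [K : K ∩ P]` for `K ⊴ N ⊴ G`. -/
theorem s87syls_not_dvd (P : Sylow p G) (N K : Subgroup G) [N.Normal] (hKN : K ≤ N)
    (hNK : N ≤ Subgroup.normalizer (K : Set G)) :
    ¬ p ∣ (K ⊓ (P : Subgroup G)).relIndex K := by
  have hKn : (K.subgroupOf N).Normal := (Subgroup.normal_subgroupOf_iff_le_normalizer hKN).mpr hNK
  have h3 := Cfsg.Agent.Helper24.BG101.not_dvd_relIndex_inf p
    (Cfsg.Agent.Helper24.BG101.infSylow p P N) (K.subgroupOf N)
  rw [Subgroup.inf_relIndex_right, Cfsg.Agent.Helper24.BG101.infSylow_coe,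
    Subgroup.relIndex_subgroupOf hKN] at h3
  have h4 : ((P : Subgroup G) ⊓ N).relIndex K = (K ⊓ (P : Subgroup G)).relIndex K := by
    rw [← Subgroup.inf_relIndex_right ((P : Subgroup G) ⊓ N) K]
    congr 1
    rw [inf_assoc, inf_eq_right.mpr hKN, inf_comm]
  rwa [h4] at h3

theorem card_inf_sylow (P : Sylow p G) (N K : Subgroup G) [N.Normal] (hKN : K ≤ N)
    (hNK : N ≤ Subgroup.normalizer (K : Set G)) :
    Nat.card ↥(K ⊓ (P : Subgroup G)) = p ^ (Nat.card ↥K).factorization p := by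
  have hp : p.Prime := Fact.out
  have hnd := s87syls_not_dvd P N K hKN hNK
  have hpg : IsPGroup p ↥(K ⊓ (P : Subgroup G)) := P.isPGroup'.to_le inf_le_right
  obtain ⟨a, ha⟩ := hpg.exists_card_eq
  have hmul : Nat.card ↥(K ⊓ (P : Subgroup G)) * (K ⊓ (P : Subgroup G)).relIndex K = Nat.card ↥K := by
    have := Subgroup.relIndex_mul_relIndex (⊥ : Subgroup G) (K ⊓ (P : Subgroup G)) K bot_le inf_le_left
    rwa [Subgroup.relIndex_bot_left, Subgroup.relIndex_bot_left] at this
  have hm0 : (K ⊓ (P : Subgroup G)).relIndex K ≠ 0 := by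
    intro h0
    rw [h0, mul_zero] at hmul
    exact (Nat.card_pos (α := ↥K)).ne' hmul.symm
  rw [← hmul, ha, Nat.factorization_mul (pow_ne_zero a hp.ne_zero) hm0]
  simp only [Finsupp.coe_add, Pi.add_apply]
  rw [hp.factorization_pow, Nat.factorization_eq_zero_of_not_dvd hnd]
  simp

theorem inf_sylow_ne_bot (P : Sylow p G) (N K : Subgroup G) [N.Normal] (hKN : K ≤ N)
    (hNK : N ≤ Subgroup.normalizer (K : Set G)) (hp : p ∣ Nat.card ↥K) :
    K ⊓ (P : Subgroup G) ≠ ⊥ := by
  have hpp : p.Prime := Fact.out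
  intro hbot
  have hc := card_inf_sylow P N K hKN hNK
  rw [hbot, Subgroup.card_bot] at hc
  have hpos : 0 < (Nat.card ↥K).factorization p :=
    hpp.factorization_pos_of_dvd (Nat.card_pos (α := ↥K)).ne' hp
  have : 1 < p ^ (Nat.card ↥K).factorization p := Nat.one_lt_pow hpos.ne' hpp.one_lt
  omega

end Cfsg.Agent.Helper23.S87
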