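import Mathlib
import Cfsg.Agent.Lib.S87.S87Defs
import Cfsg.Agent.Lib.S87.S87Rm
import Cfsg.Agent.Lib.S87.S87Min1
import Cfsg.Agent.Lib.S87.S87Min2
import Cfsg.Agent.Lib.S87.S87Gen
import Cfsg.Agent.Lib.S87.S87M5
import Cfsg.Agent.Lib.S87.S87Cop
import Cfsg.Agent.Lib.S87.S87Syls

/-!
# S4587 farm, piece S87-NM (design helper23)

`N ≤ M := Msup y L`. By `NonAb.le_of_forall_cj_le c.nonab L c.minIn.2 c.minIn.1.1 M` (S87Gen) it suffices: `cj g L ≤ M` for all `g`.
Let `K := cj g L` (`MinIn N K` by `MinIn.conj`, S87Min1; `haveI := c.nonab.min.normal`). If `K = cj (y^i) L` for some `i`, then `K ≤ M` (`le_iSup`).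
Otherwise `K` commutes elementwise with every `cj (y^i) L` (`MinIn.commute`, S87Min2), hence every `cj (y^i) L ≤ centralizer K`, so
`M ≤ centralizer K` (`iSup_le`), and `K ⊓ M ≤ K ⊓ centralizer K = ⊥` (`MinIn.inf_centralizer_eq_bot c.hyp c.nonab`, S87M5).
But `K ⊓ P ≠ ⊥` (`inf_sylow_ne_bot P N K ..`, S87Syls, with `MinIn.dvd_card`, S87Cop) and `K ⊓ P ≤ N ⊓ P ≤ M` (`Cfg.inf_le_Msup`, S87Rm),
so `K ⊓ P ≤ K ⊓ M = ⊥`: contradiction.
-/

set_option autoImplicit false

namespace Cfsg.Agent.Helper23.S87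

open Cfsg.Agent.Helper15.ZStarMin

universe u

variable {G : Type u} [Group G] [Finite G] {p : ℕ} [Fact p.Prime] {P : Sylow p G}
  {N L K : Subgroup G} {y : G}

theorem Cfg.le_Msup (c : Cfg p P N L y) : N ≤ Msup y L := by
  have := c.nonab.min.normal
  refine NonAb.le_of_forall_cj_le c.nonab L c.minIn.2 c.minIn.1.1 (Msup y L) ?_
  intro g
  have hK : MinIn N (cj g L) := MinIn.conj c.minIn g
  by_cases hex : ∃ i : ℤ, cj g L = cj (y ^ i) L
  · obtain ⟨i, hi⟩ := hex
    rw [hi]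
    exact le_iSup (fun i : ℤ => cj (y ^ i) L) i
  · exfalso
    rw [not_exists] at hex
    have hcen : Msup y L ≤ Subgroup.centralizer ((cj g L : Subgroup G) : Set G) := by
      refine iSup_le fun i => ?_
      intro a ha
      rw [Subgroup.mem_centralizer_iff]
      intro b hb
      have hLi : MinIn N (cj (y ^ i) L) := MinIn.conj c.minIn (y ^ i)
      exact MinIn.commute hK hLi (hex i) b hb a ha
    have h1 : cj g L ⊓ Msup y L ≤
        cj g L ⊓ Subgroup.centralizer ((cj g L : Subgroup G) : Set G) := inf_le_inf_left _ hcen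
    rw [MinIn.inf_centralizer_eq_bot c.hyp c.nonab hK] at h1
    have hne : cj g L ⊓ (P : Subgroup G) ≠ ⊥ :=
      inf_sylow_ne_bot P N (cj g L) hK.2 hK.1.2.1 (MinIn.dvd_card c.hyp hK)
    apply hne
    rw [eq_bot_iff]
    refine le_trans ?_ h1
    refine le_inf inf_le_left ?_
    exact le_trans (inf_le_inf_right _ hK.2) (Cfg.inf_le_Msup c)

end Cfsg.Agent.Helper23.S87

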