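import Mathlib

/-!
# S4587 farm (design helper23), piece S87-PSI (LONG, pure group theory): a transfer-type lower bound for `[X : X']`.

SETTING. `R ⊴ X` of prime index `p`, `y ∉ R` (so `X = ⟨R, y⟩` and `y ^ p ∈ R`: `X ⧸ R` has order `p`). `ρ : R →* Y`. `A ≤ R` with `ρ(A) = ρ(R)` (`hsurj`) and
`ρ (y⁻ⁱ a yⁱ) = 1` for `a ∈ A`, `0 < i < p` (`hkill`). CLAIM: `p * [ρ(R) : ρ(R)'] ≤ [X : X']`.
MATH. `Ab := Abelianization ↥ρ.range` (commutative). For `i : ℕ` let `ρᵢ : R →* Ab`, `r ↦ [ρ ⟨(y^i)⁻¹ r y^i, hmem i r⟩]` (a hom: conjugation is).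
`ψ := ∏ i ∈ Finset.range p, ρᵢ : R →* Ab` (`MonoidHom` into a `CommGroup` is a `CommGroup`; `MonoidHom.finset_prod_apply`).
(1) `ψ (y⁻¹ r y) = ψ r`: reindex (`Finset.prod_range_succ`, `Finset.prod_range_succ'`): `ψ(y⁻¹ r y) = ψ(r) * ρ_p(r) * (ρ₀ r)⁻¹`, and with `s := y ^ p ∈ R`:
`ρ ⟨s⁻¹ r s, _⟩ = (ρ s')⁻¹ * ρ r * ρ s'` which equals `ρ r` in the abelianization.
(2) `ψ` is surjective: for `r`, pick `a ∈ A` with `ρ a = ρ r` (`hsurj`); `ψ a = ρ₀ a * ∏_{0<i<p} ρᵢ a = [ρ a]` by `hkill` (`ρ₀ a = [ρ a]` as `y^0 = 1`).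
(3) `W := ψ.ker.map R.subtype` is normal in `X`: normalized by `R` (kernel) and by `y` ((1)), and `X = R ⊔ zpowers y` (prime index). `X ⧸ W` is commutative:
generated by the images of `R` (these commute pairwise since `R ⧸ ker ψ ≃ Ab` is commutative) and of `y`, and `y⁻¹ r y r⁻¹ ∈ W` by (1). So `commutator X ≤ W`
(`Abelianization`/`QuotientGroup` universal property, or show `⁅a, b⁆ ∈ W` via `Subgroup.commutator_le`/closure induction on `X = ⟨R ∪ {y}⟩`).
(4) `W.index = R.index * ψ.ker.index = p * Nat.card Ab` (`Subgroup.index_map_subtype`, first isomorphism theorem: `ψ.ker.index = Nat.card ψ.range = Nat.card Ab`), and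
`Nat.card Ab = (commutator ↥ρ.range).index` (`Abelianization = _ ⧸ commutator _`, `Subgroup.index_eq_card`). `Subgroup.index_dvd_of_le`/`Nat.le_of_dvd`: `W.index ≤ (commutator X).index`.
Keep the statement, name, namespace exactly (you may add imports). Aux names: prefix `s87psi_`.
-/

set_option autoImplicit false

namespace Cfsg.Agent.Helper23.S87

theorem s87psi_eq_top {X : Type*} [Group X] [Finite X] {p : ℕ} [Fact p.Prime]
    (R H : Subgroup X) (hidx : R.index = p) (hRH : R ≤ H) (y : X) (hyH : y ∈ H) (hy : y ∉ R) :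
    H = ⊤ := by
  have hp : p.Prime := Fact.out
  have h1 := Subgroup.relIndex_mul_index hRH
  rw [hidx] at h1
  have h2 : H.index ∣ p := Dvd.intro_left _ h1
  rcases (Nat.dvd_prime hp).mp h2 with h3 | h3
  · exact Subgroup.index_eq_one.mp h3
  · exfalso
    rw [h3] at h1
    have h4 : R.relIndex H = 1 := by
      have hpos : 0 < p := hp.pos
      exact Nat.eq_of_mul_eq_mul_right hpos (by rw [h1, one_mul])
    exact hy (Subgroup.relIndex_eq_one.mp h4 hyH)

open scoped commutatorElement in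
theorem s87psi_key {X : Type*} [Group X] [Finite X] {p : ℕ} [Fact p.Prime]
    (R : Subgroup X) [R.Normal] (hidx : R.index = p) (y : X) (hy : y ∉ R)
    {B : Type*} [CommGroup B] (ψ : R →* B) (hψs : Function.Surjective ψ)
    (hinv : ∀ (r : R) (h : y⁻¹ * (r : X) * y ∈ R), ψ ⟨y⁻¹ * (r : X) * y, h⟩ = ψ r) :
    p * Nat.card B ≤ (commutator X).index := by
  have hp : p.Prime := Fact.out
  have hRn : ∀ (x : X) (r : X), r ∈ R → x * r * x⁻¹ ∈ R := fun x r hr =>
    Subgroup.Normal.conj_mem inferInstance r hr x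
  have hconjR : ∀ r x : R, ψ (r * x * r⁻¹) = ψ x := by
    intro r x
    rw [map_mul, map_mul, map_inv, mul_comm (ψ r), mul_assoc, mul_inv_cancel, mul_one]
  -- the subgroup of elements whose conjugation preserves ψ
  let H : Subgroup X :=
    { carrier := {g | ∀ r : R, ψ ⟨g * (r : X) * g⁻¹, hRn g r r.2⟩ = ψ r}
      one_mem' := by
        intro r
        congr 1
        apply Subtype.ext
        show (1 : X) * (r : X) * 1⁻¹ = r
        group
      mul_mem' := by
        intro a b ha hb r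
        have h1 := ha ⟨b * (r : X) * b⁻¹, hRn b r r.2⟩
        rw [← hb r, ← h1]
        congr 1
        apply Subtype.ext
        show a * b * (r : X) * (a * b)⁻¹ = a * (b * (r : X) * b⁻¹) * a⁻¹
        group
      inv_mem' := by
        intro a ha r
        have h1 := ha ⟨a⁻¹ * (r : X) * a⁻¹⁻¹, hRn a⁻¹ r r.2⟩
        rw [← h1]
        congr 1
        apply Subtype.ext
        show a * (a⁻¹ * (r : X) * a⁻¹⁻¹) * a⁻¹ = (r : X)
        group }
  have hHmem : ∀ g : X, g ∈ H ↔ ∀ r : R, ψ ⟨g * (r : X) * g⁻¹, hRn g r r.2⟩ = ψ r := fun g => Iff.rfl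
  have hHtop : H = ⊤ := by
    apply s87psi_eq_top R H hidx _ y _ hy
    · intro g hg
      rw [hHmem]
      intro r
      have e : (⟨g * (r : X) * g⁻¹, hRn g r r.2⟩ : R) = ⟨g, hg⟩ * r * (⟨g, hg⟩ : R)⁻¹ :=
        Subtype.ext rfl
      rw [e]
      exact hconjR _ _
    · have hyi : y⁻¹ ∈ H := by
        rw [hHmem]
        intro r
        have h1 : y⁻¹ * (r : X) * y ∈ R := by
          have := hRn y⁻¹ r r.2
          rwa [inv_inv] at this
        have e : (⟨y⁻¹ * (r : X) * y⁻¹⁻¹, hRn y⁻¹ r r.2⟩ : R) = ⟨y⁻¹ * (r : X) * y, h1⟩ :=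
          Subtype.ext (by
            show y⁻¹ * (r : X) * y⁻¹⁻¹ = y⁻¹ * (r : X) * y
            rw [inv_inv])
        rw [e]
        exact hinv r h1
      have := H.inv_mem hyi
      rwa [inv_inv] at this
  have hH : ∀ (g : X) (r : R), ψ ⟨g * (r : X) * g⁻¹, hRn g r r.2⟩ = ψ r := by
    intro g
    have hg : g ∈ H := by
      rw [hHtop]
      exact Subgroup.mem_top g
    exact (hHmem g).mp hg
  -- the kernel, as a subgroup of X
  obtain ⟨W, hW⟩ : ∃ W : Subgroup X, W = ψ.ker.map R.subtype := ⟨_, rfl⟩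
  have hWmem : ∀ x : X, x ∈ W ↔ ∃ h : x ∈ R, ψ ⟨x, h⟩ = 1 := by
    intro x
    rw [hW]
    constructor
    · rintro ⟨r, hr, rfl⟩
      exact ⟨r.2, hr⟩
    · rintro ⟨h, h1⟩
      exact ⟨⟨x, h⟩, h1, rfl⟩
  have hWn : W.Normal := ⟨fun w hw g => by
    obtain ⟨hwR, hw1⟩ := (hWmem w).mp hw
    refine (hWmem _).mpr ⟨hRn g w hwR, ?_⟩
    rw [hH g ⟨w, hwR⟩]
    exact hw1⟩
  obtain ⟨q, hq⟩ : ∃ q : X →* X ⧸ W, q = QuotientGroup.mk' W := ⟨_, rfl⟩
  have hq1 : ∀ x : X, q x = 1 ↔ x ∈ W := by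
    intro x
    rw [hq]
    exact QuotientGroup.eq_one_iff x
  have hcR : ∀ (x : X) (r : X), r ∈ R → q x * q r = q r * q x := by
    intro x r hr
    have hmemW : x * r * x⁻¹ * r⁻¹ ∈ W := by
      refine (hWmem _).mpr ⟨R.mul_mem (hRn x r hr) (R.inv_mem hr), ?_⟩
      have e : (⟨x * r * x⁻¹ * r⁻¹, R.mul_mem (hRn x r hr) (R.inv_mem hr)⟩ : R) =
          ⟨x * r * x⁻¹, hRn x r hr⟩ * (⟨r, hr⟩ : R)⁻¹ := Subtype.ext rfl
      rw [e, map_mul, map_inv, hH x ⟨r, hr⟩, mul_inv_cancel]
    have h1 : q (x * r * x⁻¹ * r⁻¹) = 1 := (hq1 _).mpr hmemW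
    rw [map_mul, map_mul, map_mul, map_inv, map_inv] at h1
    calc q x * q r = (q x * q r * (q x)⁻¹ * (q r)⁻¹) * (q r * q x) := by group
      _ = q r * q x := by rw [h1, one_mul]
  have hP : ∀ g : X, q g * q y = q y * q g → ∀ x, q g * q x = q x * q g := by
    intro g hgy x
    have htop : (Subgroup.centralizer {q g}).comap q = ⊤ := by
      apply s87psi_eq_top R _ hidx _ y _ hy
      · intro r hr
        rw [Subgroup.mem_comap, Subgroup.mem_centralizer_iff]
        intro h hh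
        rw [Set.mem_singleton_iff] at hh
        rw [hh]
        exact hcR g r hr
      · rw [Subgroup.mem_comap, Subgroup.mem_centralizer_iff]
        intro h hh
        rw [Set.mem_singleton_iff] at hh
        rw [hh]
        exact hgy
    have hx : x ∈ (Subgroup.centralizer {q g}).comap q := by
      rw [htop]
      exact Subgroup.mem_top x
    rw [Subgroup.mem_comap, Subgroup.mem_centralizer_iff] at hx
    exact hx (q g) rfl
  have hPy := hP y rfl
  have hcomm : ∀ a b : X, q a * q b = q b * q a := fun a b => hP a (hPy a).symm b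
  have hle : commutator X ≤ W := by
    rw [commutator_def, Subgroup.commutator_le]
    intro a _ b _
    have h1 : q ⁅a, b⁆ = 1 := by
      rw [commutatorElement_def, map_mul, map_mul, map_mul, map_inv, map_inv, hcomm a b]
      group
    exact (hq1 _).mp h1
  have hWidx : W.index = Nat.card B * p := by
    rw [hW, Subgroup.index_map_subtype, hidx, Subgroup.index_ker,
      MonoidHom.range_eq_top.mpr hψs, Subgroup.card_top]
  have hdvd := Subgroup.index_dvd_of_le hle
  have hpos : 0 < (commutator X).index := Nat.pos_of_ne_zero Subgroup.index_ne_zero_of_finite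
  have hle2 := Nat.le_of_dvd hpos hdvd
  rw [hWidx] at hle2
  rw [mul_comm]
  exact hle2

theorem index_commutator_ge {X : Type*} [Group X] [Finite X] {p : ℕ} [Fact p.Prime]
    (R : Subgroup X) [R.Normal] (hidx : R.index = p) (y : X) (hy : y ∉ R)
    {Y : Type*} [Group Y] [Finite Y] (ρ : R →* Y) (A : Subgroup X)
    (hmem : ∀ (i : ℕ) (r : R), (y ^ i)⁻¹ * (r : X) * y ^ i ∈ R)
    (hsurj : ∀ r : R, ∃ a : R, (a : X) ∈ A ∧ ρ a = ρ r)
    (hkill : ∀ i : ℕ, 0 < i → i < p → ∀ a : R, (a : X) ∈ A →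
        ρ ⟨(y ^ i)⁻¹ * (a : X) * y ^ i, hmem i a⟩ = 1) :
    p * (commutator ↥ρ.range).index ≤ (commutator X).index := by
  have hp : p.Prime := Fact.out
  have hyp : y ^ p ∈ R := by
    have h1 : ((y : X) : X ⧸ R) ^ p = 1 := by
      have hcard : Nat.card (X ⧸ R) = p := by
        rw [← Subgroup.index_eq_card]
        exact hidx
      rw [← hcard]
      exact pow_card_eq_one'
    rw [← QuotientGroup.mk_pow] at h1
    exact (QuotientGroup.eq_one_iff _).mp h1
  obtain ⟨c, hc⟩ : ∃ c : ℕ → (R →* R),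
      ∀ i (r : R), ((c i r : R) : X) = (y ^ i)⁻¹ * (r : X) * y ^ i :=
    ⟨fun i =>
      { toFun := fun r => ⟨(y ^ i)⁻¹ * (r : X) * y ^ i, hmem i r⟩
        map_one' := by
          apply Subtype.ext
          show (y ^ i)⁻¹ * (1 : X) * y ^ i = 1
          group
        map_mul' := by
          intro a b
          apply Subtype.ext
          show (y ^ i)⁻¹ * ((a : X) * (b : X)) * y ^ i =
            ((y ^ i)⁻¹ * (a : X) * y ^ i) * ((y ^ i)⁻¹ * (b : X) * y ^ i)
          group }, fun i r => rfl⟩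
  obtain ⟨σ, hσ⟩ : ∃ σ : R →* Abelianization ↥ρ.range,
      σ = (Abelianization.of).comp ρ.rangeRestrict := ⟨_, rfl⟩
  have hσeq : ∀ a r : R, ρ a = ρ r → σ a = σ r := by
    intro a r har
    rw [hσ]
    show Abelianization.of (ρ.rangeRestrict a) = Abelianization.of (ρ.rangeRestrict r)
    have e : ρ.rangeRestrict a = ρ.rangeRestrict r := Subtype.ext har
    rw [e]
  have hσ1 : ∀ r : R, ρ r = 1 → σ r = 1 := by
    intro r hr
    have h1 := hσeq r 1 (by rw [hr, map_one])
    rw [h1, map_one]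
  have hσsurj : ∀ z : Abelianization ↥ρ.range, ∃ r : R, σ r = z := by
    intro z
    obtain ⟨w, rfl⟩ := QuotientGroup.mk_surjective z
    obtain ⟨r, hr⟩ := w.2
    refine ⟨r, ?_⟩
    rw [hσ]
    show Abelianization.of (ρ.rangeRestrict r) = _
    have e : ρ.rangeRestrict r = w := Subtype.ext hr
    rw [e]
    rfl
  obtain ⟨ψ, hψ⟩ : ∃ ψ : R →* Abelianization ↥ρ.range,
      ∀ r, ψ r = ∏ i ∈ Finset.range p, σ (c i r) :=
    ⟨∏ i ∈ Finset.range p, σ.comp (c i), fun r => by
      rw [MonoidHom.finsetProd_apply]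
      rfl⟩
  have hf0 : ∀ r, σ (c 0 r) = σ r := by
    intro r
    congr 1
    apply Subtype.ext
    rw [hc]
    simp
  have hfp : ∀ r, σ (c p r) = σ r := by
    intro r
    have e : c p r = (⟨y ^ p, hyp⟩ : R)⁻¹ * r * ⟨y ^ p, hyp⟩ := by
      apply Subtype.ext
      rw [hc]
      rfl
    rw [e, map_mul, map_mul, map_inv, mul_comm, ← mul_assoc, mul_inv_cancel, one_mul]
  have hinv : ∀ (r : R) (h : y⁻¹ * (r : X) * y ∈ R), ψ ⟨y⁻¹ * (r : X) * y, h⟩ = ψ r := by
    intro r h
    rw [hψ, hψ]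
    have e : ∀ i, c i ⟨y⁻¹ * (r : X) * y, h⟩ = c (i + 1) r := by
      intro i
      apply Subtype.ext
      rw [hc, hc]
      show (y ^ i)⁻¹ * (y⁻¹ * (r : X) * y) * y ^ i = (y ^ (i + 1))⁻¹ * (r : X) * y ^ (i + 1)
      rw [pow_succ]
      group
    simp only [e]
    have h1 := Finset.prod_range_succ' (fun i => σ (c i r)) p
    have h2 := Finset.prod_range_succ (fun i => σ (c i r)) p
    rw [h1] at h2
    rw [hf0, hfp] at h2
    exact mul_right_cancel h2
  have hψs : Function.Surjective ψ := by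
    intro z
    obtain ⟨r, rfl⟩ := hσsurj z
    obtain ⟨a, haA, har⟩ := hsurj r
    refine ⟨a, ?_⟩
    rw [hψ, Finset.prod_eq_single 0]
    · rw [hf0]
      exact hσeq a r har
    · intro i hi hi0
      apply hσ1
      have h1 := hkill i (Nat.pos_of_ne_zero hi0) (Finset.mem_range.mp hi) a haA
      have e : c i a = ⟨(y ^ i)⁻¹ * (a : X) * y ^ i, hmem i a⟩ := Subtype.ext (hc i a)
      rw [e]
      exact h1
    · intro h0
      exact absurd (Finset.mem_range.mpr hp.pos) h0
  have hkey := s87psi_key R hidx y hy ψ hψs hinv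
  have hcardAb : Nat.card (Abelianization ↥ρ.range) = (commutator ↥ρ.range).index :=
    (Subgroup.index_eq_card _).symm
  rw [hcardAb] at hkey
  exact hkey

end Cfsg.Agent.Helper23.S87
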