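import Mathlib
import Cfsg.Agent.Lib.S87.S87Defs
import Cfsg.Agent.Lib.S87.S87Syls

/-!
# S4587 farm, piece S87-SPLIT (design helper23)

`N = L × C` internally (`L, C ≤ N` both `N`-invariant, `L ∩ C = 1`, `N ≤ L ⊔ C`). Then `N ∩ P = (L ∩ P)(C ∩ P)`.
Math: elements of `L` and `C` commute (`[L,C] ≤ L ∩ C`). `|N| = |L| |C|` (the map `L × C → N`, `(a,b) ↦ ab` is a bijection).
By `card_inf_sylow` (cite by statement, for `K = N, L, C`) `|N∩P| = p^(v_p|N|) = p^(v_p|L|) p^(v_p|C|) = |L∩P| |C∩P|`.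
The map `(L∩P) × (C∩P) → N∩P`, `(a,b) ↦ ab`, is injective (`a b = a' b'` gives `a'⁻¹ a = b' b⁻¹ ∈ L ∩ C = 1`) between finite sets
of the same cardinality, hence surjective (`Finite.injective_iff_surjective_of_equiv` / `Nat.bijective_iff_injective_and_card`).
-/

set_option autoImplicit false

namespace Cfsg.Agent.Helper23.S87

open Cfsg.Agent.Helper15.ZStarMin

universe u

variable {G : Type u} [Group G] [Finite G] {p : ℕ} [Fact p.Prime] {P : Sylow p G}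
  {N L K : Subgroup G} {y : G}

theorem s87split_inj {H : Type*} [Group H] (L C : Subgroup H) (hd : L ⊓ C = ⊥) {a a' b b' : H}
    (ha : a ∈ L) (ha' : a' ∈ L) (hb : b ∈ C) (hb' : b' ∈ C) (h : a * b = a' * b') :
    a = a' ∧ b = b' := by
  have h1 : a'⁻¹ * a = b' * b⁻¹ := by
    calc a'⁻¹ * a = a'⁻¹ * (a * b) * b⁻¹ := by group
      _ = a'⁻¹ * (a' * b') * b⁻¹ := by rw [h]
      _ = b' * b⁻¹ := by group
  have hmem : a'⁻¹ * a ∈ L ⊓ C :=
    ⟨L.mul_mem (L.inv_mem ha') ha, h1 ▸ C.mul_mem hb' (C.inv_mem hb)⟩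
  rw [hd, Subgroup.mem_bot] at hmem
  have e1 : a' = a := inv_mul_eq_one.mp hmem
  have e2 : b' = b := mul_inv_eq_one.mp (h1 ▸ hmem)
  exact ⟨e1.symm, e2.symm⟩

open scoped Pointwise in
theorem s87split_card_eq {H : Type*} [Group H] (N L C : Subgroup H) (hLN : L ≤ N) (hCN : C ≤ N)
    (hNC : N ≤ Subgroup.normalizer (C : Set H)) (hd : L ⊓ C = ⊥) (hsup : N ≤ L ⊔ C) :
    Nat.card N = Nat.card L * Nat.card C := by
  classical
  let f : L × C → N := fun x => ⟨(x.1 : H) * (x.2 : H), N.mul_mem (hLN x.1.2) (hCN x.2.2)⟩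
  have hinj : Function.Injective f := by
    rintro ⟨a, b⟩ ⟨a', b'⟩ h
    have h' : (a : H) * b = a' * b' := congrArg Subtype.val h
    obtain ⟨h1, h2⟩ := s87split_inj L C hd a.2 a'.2 b.2 b'.2 h'
    exact Prod.ext (Subtype.ext h1) (Subtype.ext h2)
  have hsurj : Function.Surjective f := by
    rintro ⟨n, hn⟩
    have hn' : n ∈ L ⊔ C := hsup hn
    have hLC : L ≤ Subgroup.normalizer (C : Set H) := hLN.trans hNC
    have hcoe : ((L ⊔ C : Subgroup H) : Set H) = (L : Set H) * (C : Set H) :=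
      Subgroup.coe_mul_of_left_le_normalizer_right L C hLC
    have hmem : n ∈ (L : Set H) * (C : Set H) := by rw [← hcoe]; exact hn'
    obtain ⟨a, ha, b, hb, rfl⟩ := Set.mem_mul.mp hmem
    exact ⟨(⟨a, ha⟩, ⟨b, hb⟩), rfl⟩
  rw [← Nat.card_prod]
  exact (Nat.card_congr (Equiv.ofBijective f ⟨hinj, hsurj⟩)).symm

theorem exists_mul_of_split (P : Sylow p G) (N L C : Subgroup G) [N.Normal] (hLN : L ≤ N) (hCN : C ≤ N)
    (hNL : N ≤ Subgroup.normalizer (L : Set G)) (hNC : N ≤ Subgroup.normalizer (C : Set G))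
    (hd : L ⊓ C = ⊥) (hsup : N ≤ L ⊔ C) :
    ∀ r ∈ N ⊓ (P : Subgroup G), ∃ a ∈ L ⊓ (P : Subgroup G), ∃ b ∈ C ⊓ (P : Subgroup G), r = a * b := by
  classical
  intro r hr
  have hN : Nat.card ↥(N ⊓ (P : Subgroup G)) = p ^ (Nat.card ↥N).factorization p :=
    card_inf_sylow P N N le_rfl Subgroup.le_normalizer
  have hL : Nat.card ↥(L ⊓ (P : Subgroup G)) = p ^ (Nat.card ↥L).factorization p :=
    card_inf_sylow P N L hLN hNL
  have hC : Nat.card ↥(C ⊓ (P : Subgroup G)) = p ^ (Nat.card ↥C).factorization p :=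
    card_inf_sylow P N C hCN hNC
  have hcard := s87split_card_eq N L C hLN hCN hNC hd hsup
  have hfac : (Nat.card ↥N).factorization p
      = (Nat.card ↥L).factorization p + (Nat.card ↥C).factorization p := by
    rw [hcard, Nat.factorization_mul Nat.card_pos.ne' Nat.card_pos.ne']
    rfl
  have hRAB : Nat.card ↥(N ⊓ (P : Subgroup G))
      = Nat.card ↥(L ⊓ (P : Subgroup G)) * Nat.card ↥(C ⊓ (P : Subgroup G)) := by
    rw [hN, hL, hC, hfac, pow_add]
  let f : ↥(L ⊓ (P : Subgroup G)) × ↥(C ⊓ (P : Subgroup G)) → ↥(N ⊓ (P : Subgroup G)) :=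
    fun x => ⟨(x.1 : G) * (x.2 : G),
      ⟨N.mul_mem (hLN x.1.2.1) (hCN x.2.2.1), (P : Subgroup G).mul_mem x.1.2.2 x.2.2.2⟩⟩
  have hinj : Function.Injective f := by
    rintro ⟨a, b⟩ ⟨a', b'⟩ h
    have h' : (a : G) * b = a' * b' := congrArg Subtype.val h
    obtain ⟨h1, h2⟩ := s87split_inj L C hd a.2.1 a'.2.1 b.2.1 b'.2.1 h'
    exact Prod.ext (Subtype.ext h1) (Subtype.ext h2)
  have hbij : Function.Bijective f :=
    hinj.bijective_of_nat_card_le (by rw [Nat.card_prod, hRAB])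
  obtain ⟨⟨a, b⟩, hab⟩ := hbij.2 ⟨r, hr⟩
  exact ⟨a, a.2, b, b.2, (congrArg Subtype.val hab).symm⟩

end Cfsg.Agent.Helper23.S87

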