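import Mathlib
import Cfsg.Agent.Lib.S87.S87Defs
import Cfsg.Agent.Lib.S87.S87Split
import Cfsg.Agent.Lib.S87.S87Min1
import Cfsg.Agent.Lib.S87.S87Min2
import Cfsg.Agent.Lib.S87.S87Gen
import Cfsg.Agent.Lib.S87.S87M5

/-!
# S4587 farm, piece S87-SPL2 (design helper23)

Apply `exists_mul_of_split P N L C` (S87Split) with `C := N ⊓ centralizer L` (`haveI := hN.min.normal`):
`hLN = hL.2`, `hCN = inf_le_left`, `hNL = hL.1.2.1`, `hNC`: `N` normalizes `N` and `centralizer L` (as it normalizes `L`);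
`hd`: `L ⊓ (N ⊓ centralizer L) ≤ L ⊓ centralizer L = ⊥` (`MinIn.inf_centralizer_eq_bot h hN hL`, S87M5);
`hsup`: `NonAb.le_of_forall_cj_le hN L hL.2 hL.1.1 (L ⊔ C)` (S87Gen): for each `g`, either `cj g L = L ≤ L ⊔ C`, or `cj g L ≠ L`,
then `cj g L` is `MinIn` (`MinIn.conj`, S87Min1), commutes elementwise with `L` (`MinIn.commute`, S87Min2), and `cj g L ≤ N`
(`(MinIn.conj hL g).2`), so `cj g L ≤ C ≤ L ⊔ C`.
-/

set_option autoImplicit false

namespace Cfsg.Agent.Helper23.S87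

open Cfsg.Agent.Helper15.ZStarMin

universe u

variable {G : Type u} [Group G] [Finite G] {p : ℕ} [Fact p.Prime] {P : Sylow p G}
  {N L K : Subgroup G} {y : G}

theorem MinIn.split (h : Hyp p P) (hN : NonAb N) (hL : MinIn N L) :
    ∀ r ∈ N ⊓ (P : Subgroup G), ∃ a ∈ L ⊓ (P : Subgroup G),
      ∃ b ∈ (N ⊓ Subgroup.centralizer (L : Set G)) ⊓ (P : Subgroup G), r = a * b := by
  have hNn : N.Normal := hN.min.normal
  have hLN : L ≤ N := hL.2
  have hNL : N ≤ Subgroup.normalizer (L : Set G) := hL.1.2.1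
  have hL0 : L ≠ ⊥ := hL.1.1
  -- the normalizer of `L` normalizes its centralizer
  have hconj : ∀ n ∈ Subgroup.normalizer (L : Set G), ∀ x ∈ Subgroup.centralizer (L : Set G),
      n * x * n⁻¹ ∈ Subgroup.centralizer (L : Set G) := by
    intro n hn x hx
    rw [Subgroup.mem_centralizer_iff]
    intro l hl
    have hl' : n⁻¹ * l * n ∈ L := by
      have h1 := (Subgroup.mem_normalizer_iff.mp hn) (n⁻¹ * l * n)
      apply h1.mpr
      have e : n * (n⁻¹ * l * n) * n⁻¹ = l := by group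
      rw [e]
      exact hl
    have h2 := (Subgroup.mem_centralizer_iff.mp hx) (n⁻¹ * l * n) hl'
    calc l * (n * x * n⁻¹) = n * ((n⁻¹ * l * n) * x) * n⁻¹ := by group
      _ = n * (x * (n⁻¹ * l * n)) * n⁻¹ := by rw [h2]
      _ = n * x * n⁻¹ * l := by group
  have hNC : N ≤ Subgroup.normalizer ((N ⊓ Subgroup.centralizer (L : Set G) : Subgroup G) : Set G) := by
    intro n hn
    rw [Subgroup.mem_normalizer_iff]
    intro x
    constructor
    · rintro ⟨hxN, hxC⟩
      exact ⟨N.mul_mem (N.mul_mem hn hxN) (N.inv_mem hn), hconj n (hNL hn) x hxC⟩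
    · rintro ⟨hxN, hxC⟩
      have e : n⁻¹ * (n * x * n⁻¹) * n⁻¹⁻¹ = x := by group
      refine ⟨?_, ?_⟩
      · have h3 : n⁻¹ * (n * x * n⁻¹) * n⁻¹⁻¹ ∈ N :=
          N.mul_mem (N.mul_mem (N.inv_mem hn) hxN) (N.inv_mem (N.inv_mem hn))
        rwa [e] at h3
      · have h3 := hconj n⁻¹ (Subgroup.inv_mem _ (hNL hn)) _ hxC
        rwa [e] at h3
  have hd : L ⊓ (N ⊓ Subgroup.centralizer (L : Set G)) = ⊥ := by
    rw [eq_bot_iff, ← MinIn.inf_centralizer_eq_bot h hN hL]
    exact le_inf inf_le_left (inf_le_right.trans inf_le_right)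
  have hsup : N ≤ L ⊔ (N ⊓ Subgroup.centralizer (L : Set G)) := by
    refine NonAb.le_of_forall_cj_le hN L hLN hL0 _ ?_
    intro g
    by_cases hg : cj g L = L
    · rw [hg]
      exact le_sup_left
    · have hK : MinIn N (cj g L) := MinIn.conj hL g
      have hcomm := MinIn.commute hL hK (Ne.symm hg)
      refine le_trans ?_ le_sup_right
      intro b hb
      have hbC : b ∈ Subgroup.centralizer (L : Set G) := by
        rw [Subgroup.mem_centralizer_iff]
        intro l hl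
        exact hcomm l hl b hb
      exact ⟨hK.2 hb, hbC⟩
  exact exists_mul_of_split P N L (N ⊓ Subgroup.centralizer (L : Set G)) hLN inf_le_left hNL hNC hd hsup

end Cfsg.Agent.Helper23.S87

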