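import Mathlib
import Cfsg.Agent.Lib.S87.S87Defs
import Cfsg.Agent.Lib.S87.S87Staba
import Cfsg.Agent.Lib.S87.S87Cj

/-!
# S4587 farm, piece S87-STABC (design helper23)

* `Cfg.zpow_mem_iff`: `R := (N ⊓ P).subgroupOf P` is normal in `↥P` of index `p` (`Cfg.relIndex_eq`, S87Staba; `Subgroup.relIndex`
  is by definition that index), so `⟨y, c.hyP⟩ ^ p ∈ R` (`Subgroup.pow_index_mem`/`QuotientGroup` order argument), i.e. `y ^ p ∈ N`.
  `(←)`: `y ^ (p * k) = (y ^ p) ^ k`. `(→)`: if `p ∤ i`, Bezout (`Int.isCoprime_iff_gcd_eq_one`, `Int.gcd_eq_gcd_ab` or `IsCoprime`: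
  `∃ a b, a * i + b * p = 1`) gives `y = (y^i)^a * (y^p)^b ∈ N`, against `Cfg.not_mem`.
* `Cfg.cj_zpow_ne`: if `cj (y^i) L = L` then `y ^ i ∈ normalizer L` (`cj_eq_self_iff`, S87Cj); `y ^ p ∈ N ≤ normalizer L`;
  the same Bezout identity puts `y` in `normalizer L`, against `c.hyL`.
-/

set_option autoImplicit false

namespace Cfsg.Agent.Helper23.S87

open Cfsg.Agent.Helper15.ZStarMin

universe u

variable {G : Type u} [Group G] [Finite G] {p : ℕ} [Fact p.Prime] {P : Sylow p G}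
  {N L K : Subgroup G} {y : G}

theorem Cfg.zpow_mem_iff (c : Cfg p P N L y) (i : ℤ) : y ^ i ∈ N ↔ (p : ℤ) ∣ i := by
  haveI hNn : N.Normal := c.nonab.min.normal
  have hyp_mem : y ^ (p : ℤ) ∈ N := by
    haveI : ((N ⊓ (P : Subgroup G)).subgroupOf (P : Subgroup G)).Normal := by
      rw [Subgroup.inf_subgroupOf_right]
      infer_instance
    have hidx : ((N ⊓ (P : Subgroup G)).subgroupOf (P : Subgroup G)).index = p := c.relIndex_eq
    have h1 := Subgroup.pow_index_mem ((N ⊓ (P : Subgroup G)).subgroupOf (P : Subgroup G))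
      (⟨y, c.hyP⟩ : (P : Subgroup G))
    rw [hidx, Subgroup.mem_subgroupOf] at h1
    have h2 : y ^ p ∈ N ⊓ (P : Subgroup G) := by simpa using h1
    rw [zpow_natCast]
    exact h2.1
  constructor
  · intro hi
    by_contra hnd
    have hp : Prime (p : ℤ) := Nat.prime_iff_prime_int.mp Fact.out
    have hcop : IsCoprime (p : ℤ) i := hp.coprime_iff_not_dvd.mpr hnd
    obtain ⟨a, b, hab⟩ := hcop
    apply c.not_mem
    have hy : y = (y ^ (p : ℤ)) ^ a * (y ^ i) ^ b := by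
      rw [← zpow_mul, ← zpow_mul, ← zpow_add, mul_comm (p : ℤ) a, mul_comm i b, hab, zpow_one]
    rw [hy]
    exact N.mul_mem (N.zpow_mem hyp_mem a) (N.zpow_mem hi b)
  · rintro ⟨k, rfl⟩
    rw [zpow_mul]
    exact N.zpow_mem hyp_mem k

theorem Cfg.cj_zpow_ne (c : Cfg p P N L y) (i : ℤ) (hi : ¬ (p : ℤ) ∣ i) : cj (y ^ i) L ≠ L := by
  intro h
  have h1 : y ^ i ∈ Subgroup.normalizer (L : Set G) := cj_eq_self_iff.mp h
  have h2 : y ^ (p : ℤ) ∈ Subgroup.normalizer (L : Set G) :=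
    c.minIn.1.2.1 ((c.zpow_mem_iff (p : ℤ)).mpr dvd_rfl)
  have hp : Prime (p : ℤ) := Nat.prime_iff_prime_int.mp Fact.out
  have hcop : IsCoprime (p : ℤ) i := hp.coprime_iff_not_dvd.mpr hi
  obtain ⟨a, b, hab⟩ := hcop
  apply c.hyL
  have hy : y = (y ^ (p : ℤ)) ^ a * (y ^ i) ^ b := by
    rw [← zpow_mul, ← zpow_mul, ← zpow_add, mul_comm (p : ℤ) a, mul_comm i b, hab, zpow_one]
  rw [hy]
  exact Subgroup.mul_mem _ (Subgroup.zpow_mem _ h2 a) (Subgroup.zpow_mem _ h1 b)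

end Cfsg.Agent.Helper23.S87

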