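import Mathlib
import Cfsg.Agent.Lib.S87.S87Defs
import Cfsg.Agent.Lib.S87.S87Psi
import Cfsg.Agent.Lib.S87.S87Cyc
import Cfsg.Agent.Lib.S87.S87Spl2
import Cfsg.Agent.Lib.S87.S87Staba
import Cfsg.Agent.Lib.S87.S87Stabc
import Cfsg.Agent.Lib.S87.S87Min1
import Cfsg.Agent.Lib.S87.S87Min2
import Cfsg.Agent.Lib.S87.S87M5
import Cfsg.Agent.Lib.S87.S87Cj

/-!
# S4587 farm, piece S87-RHOA (design helper23)

LONG. `|L ∩ P| ≤ p`. Apply `index_commutator_ge` (S87Psi) with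
`X := ↥P`, `R := (N ⊓ P).subgroupOf P` (normal as `N` is; index `p` by `Cfg.relIndex_eq`), `y := ⟨y, c.hyP⟩ ∉ R` (`Cfg.not_mem`),
`Y := MulAut ↥L`, `ρ : ↥R →* MulAut ↥L` the conjugation action: `(Subgroup.normalizerMonoidHom L).comp (inclusion-type hom R → normalizer L)`
(elements of `R` lie in `N ≤ normalizer L`; `Subgroup.normalizerMonoidHom` is in Mathlib/GroupTheory/Subgroup/Centralizer.lean, with
`normalizerMonoidHom_ker`), `A := (L ⊓ P).subgroupOf P`.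
* `hmem`: normality of `R`.
* `hsurj`: for `r ∈ R`, `MinIn.split c.hyp c.nonab c.minIn` (S87Spl2) writes `r = a * b`, `a ∈ L ⊓ P`, `b ∈ N ⊓ centralizer L ⊓ P`;
  `ρ b = 1` (b centralizes `L`), so `ρ r = ρ a`; `a ∈ R` as `L ≤ N`.
* `hkill`: for `0 < i < p` and `a ∈ L ⊓ P`: `(y^i)⁻¹ a y^i ∈ cj ((y^i)⁻¹) L = cj (y ^ (-(i:ℤ))) L =: L'`, `L' ≠ L` (`Cfg.cj_zpow_ne`, S87Stabc;
  `p ∤ -i` as `0 < i < p`), `L'` is `MinIn` (`MinIn.conj`), so its elements commute with `L` (`MinIn.commute`, S87Min2) and act trivially: `ρ (..) = 1`.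
Conclusion: `p * (commutator ρ.range).index ≤ (commutator ↥P).index = (⁅P,P⁆).relIndex P = p^2` (`c.hyp.hrel`;
`⁅P,P⁆.subgroupOf P = commutator ↥P` via `Subgroup.map_subtype_commutator`), so `(commutator ρ.range).index ≤ p`; `ρ.range` is a `p`-group
(image of the `p`-group `R`; `IsPGroup.of_surjective`/`IsPGroup.map`), so `Nat.card ρ.range ≤ p` (`card_le_of_index_commutator_le`, S87Cyc).
Finally `L ⊓ P → ρ.range`, `a ↦ ρ a`, is injective: `ρ a = ρ a'` means `a⁻¹ a'` centralizes `L`, and `a⁻¹ a' ∈ L ⊓ centralizer L = ⊥`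
(`MinIn.inf_centralizer_eq_bot`, S87M5). So `|L ⊓ P| ≤ |ρ.range| ≤ p` (`Nat.card_le_card_of_injective`).
-/

set_option autoImplicit false

namespace Cfsg.Agent.Helper23.S87

open Cfsg.Agent.Helper15.ZStarMin

universe u

variable {G : Type u} [Group G] [Finite G] {p : ℕ} [Fact p.Prime] {P : Sylow p G}
  {N L K : Subgroup G} {y : G}

theorem Cfg.card_inf_le (c : Cfg p P N L y) : Nat.card ↥(L ⊓ (P : Subgroup G)) ≤ p := by
  have hp : p.Prime := Fact.out
  have hNn : N.Normal := c.nonab.min.normal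
  have hNL : N ≤ Subgroup.normalizer (L : Set G) := c.minIn.1.2.1
  have hLN : L ≤ N := c.minIn.2
  let R : Subgroup ↥(P : Subgroup G) := N.subgroupOf (P : Subgroup G)
  have hRn : R.Normal := Subgroup.normal_subgroupOf
  have hidx : R.index = p := by
    have h1 : R.index = N.relIndex (P : Subgroup G) := rfl
    rw [h1, ← Subgroup.inf_relIndex_right]
    exact c.relIndex_eq
  let y' : ↥(P : Subgroup G) := ⟨y, c.hyP⟩
  have hy' : y' ∉ R := fun h => c.not_mem (Subgroup.mem_subgroupOf.mp h)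
  let ι : ↥R →* ↥(Subgroup.normalizer (L : Set G)) :=
    { toFun := fun r => ⟨((r : ↥(P : Subgroup G)) : G), hNL (Subgroup.mem_subgroupOf.mp r.2)⟩
      map_one' := rfl
      map_mul' := fun _ _ => rfl }
  let ρ : ↥R →* MulAut ↥L := (Subgroup.normalizerMonoidHom L).comp ι
  have hρ : ∀ (r : ↥R) (l : ↥L), ((ρ r l : ↥L) : G) =
      ((r : ↥(P : Subgroup G)) : G) * (l : G) * ((r : ↥(P : Subgroup G)) : G)⁻¹ := by
    intro r l
    simp [ρ, ι]
  have hρ1 : ∀ r : ↥R, (∀ l ∈ L, ((r : ↥(P : Subgroup G)) : G) * l =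
      l * ((r : ↥(P : Subgroup G)) : G)) → ρ r = 1 := by
    intro r hr
    ext l
    rw [hρ, hr (l : G) l.2]
    simp
  let A : Subgroup ↥(P : Subgroup G) := (L ⊓ (P : Subgroup G)).subgroupOf (P : Subgroup G)
  have hmem : ∀ (i : ℕ) (r : ↥R), (y' ^ i)⁻¹ * (r : ↥(P : Subgroup G)) * y' ^ i ∈ R := by
    intro i r
    have := hRn.conj_mem (r : ↥(P : Subgroup G)) r.2 ((y' ^ i)⁻¹)
    simpa using this
  have hsurj : ∀ r : ↥R, ∃ a : ↥R, ((a : ↥(P : Subgroup G))) ∈ A ∧ ρ a = ρ r := by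
    intro r
    have hrN : ((r : ↥(P : Subgroup G)) : G) ∈ N ⊓ (P : Subgroup G) :=
      ⟨Subgroup.mem_subgroupOf.mp r.2, (r : ↥(P : Subgroup G)).2⟩
    obtain ⟨a, ha, b, hb, hab⟩ := MinIn.split c.hyp c.nonab c.minIn _ hrN
    have haN : a ∈ N := hLN ha.1
    have hbc : ∀ h ∈ L, h * b = b * h := Subgroup.mem_centralizer_iff.mp hb.1.2
    refine ⟨⟨⟨a, ha.2⟩, Subgroup.mem_subgroupOf.mpr haN⟩, Subgroup.mem_subgroupOf.mpr ha, ?_⟩
    ext l
    rw [hρ, hρ]
    show a * (l : G) * a⁻¹ = ((r : ↥(P : Subgroup G)) : G) * (l : G) * ((r : ↥(P : Subgroup G)) : G)⁻¹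
    rw [hab]
    have e := hbc (l : G) l.2
    calc a * (l : G) * a⁻¹ = a * ((l : G) * b) * b⁻¹ * a⁻¹ := by group
      _ = a * (b * (l : G)) * b⁻¹ * a⁻¹ := by rw [e]
      _ = a * b * (l : G) * (a * b)⁻¹ := by group
  have hkill : ∀ i : ℕ, 0 < i → i < p → ∀ a : ↥R, ((a : ↥(P : Subgroup G))) ∈ A →
      ρ ⟨(y' ^ i)⁻¹ * (a : ↥(P : Subgroup G)) * y' ^ i, hmem i a⟩ = 1 := by
    intro i hi0 hip a haA
    apply hρ1
    intro l hl
    have haL : ((a : ↥(P : Subgroup G)) : G) ∈ L := (Subgroup.mem_subgroupOf.mp haA).1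
    have hndvd : ¬ (p : ℤ) ∣ -(i : ℤ) := by
      rw [dvd_neg, Int.natCast_dvd_natCast]
      intro hd
      exact absurd (Nat.le_of_dvd hi0 hd) (not_le.mpr hip)
    have hne : cj (y ^ (-(i : ℤ))) L ≠ L := c.cj_zpow_ne _ hndvd
    have hL' : MinIn N (cj (y ^ (-(i : ℤ))) L) := MinIn.conj c.minIn _
    have hcomm := MinIn.commute c.minIn hL' (Ne.symm hne)
    have hx : ((((y' ^ i)⁻¹ * (a : ↥(P : Subgroup G)) * y' ^ i : ↥(P : Subgroup G))) : G) ∈
        cj (y ^ (-(i : ℤ))) L := by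
      have h1 := conj_mem_cj (g := y ^ (-(i : ℤ))) haL
      have h2 : ((((y' ^ i)⁻¹ * (a : ↥(P : Subgroup G)) * y' ^ i : ↥(P : Subgroup G))) : G) =
          y ^ (-(i : ℤ)) * ((a : ↥(P : Subgroup G)) : G) * (y ^ (-(i : ℤ)))⁻¹ := by
        simp [y', zpow_neg]
      rw [h2]
      exact h1
    exact (hcomm l hl _ hx).symm
  have key := index_commutator_ge R hidx y' hy' ρ A hmem hsurj hkill
  have hcomm2 : (commutator ↥(P : Subgroup G)).index = p ^ 2 := by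
    have h1 : (⁅(P : Subgroup G), (P : Subgroup G)⁆).subgroupOf (P : Subgroup G) =
        commutator ↥(P : Subgroup G) := by
      rw [← Subgroup.map_subtype_commutator]
      exact Subgroup.comap_map_eq_self_of_injective (Subgroup.subtype_injective _) _
    rw [← h1]
    exact c.hyp.hrel
  rw [hcomm2, pow_two] at key
  have hidx2 : (commutator ↥ρ.range).index ≤ p := Nat.le_of_mul_le_mul_left key hp.pos
  have hRp : IsPGroup p ↥R := P.isPGroup'.to_subgroup R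
  have hrange : IsPGroup p ↥ρ.range :=
    IsPGroup.of_surjective hRp ρ.rangeRestrict ρ.rangeRestrict_surjective
  have hcard : Nat.card ↥ρ.range ≤ p := card_le_of_index_commutator_le hrange hidx2
  -- injection
  let f : ↥(L ⊓ (P : Subgroup G)) → ↥ρ.range := fun a =>
    ⟨ρ ⟨⟨(a : G), a.2.2⟩, Subgroup.mem_subgroupOf.mpr (hLN a.2.1)⟩, ⟨_, rfl⟩⟩
  have hf : Function.Injective f := by
    intro a a' haa
    have h1 : ρ ⟨⟨(a : G), a.2.2⟩, Subgroup.mem_subgroupOf.mpr (hLN a.2.1)⟩ =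
        ρ ⟨⟨(a' : G), a'.2.2⟩, Subgroup.mem_subgroupOf.mpr (hLN a'.2.1)⟩ :=
      Subtype.ext_iff.mp haa
    have h2 : ∀ l : ↥L, (a : G) * (l : G) * (a : G)⁻¹ = (a' : G) * (l : G) * (a' : G)⁻¹ := by
      intro l
      have := congrArg (fun t : ↥L => (t : G)) (DFunLike.congr_fun h1 l)
      simpa [hρ] using this
    have h3 : (a : G)⁻¹ * (a' : G) ∈ L ⊓ Subgroup.centralizer (L : Set G) := by
      refine Subgroup.mem_inf.mpr ⟨L.mul_mem (L.inv_mem a.2.1) a'.2.1, ?_⟩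
      rw [Subgroup.mem_centralizer_iff]
      intro h hh
      have e := h2 ⟨h, hh⟩
      have e' : (a : G) * h * (a : G)⁻¹ = (a' : G) * h * (a' : G)⁻¹ := e
      calc h * ((a : G)⁻¹ * (a' : G)) = (a : G)⁻¹ * ((a : G) * h * (a : G)⁻¹) * (a' : G) := by group
        _ = (a : G)⁻¹ * ((a' : G) * h * (a' : G)⁻¹) * (a' : G) := by rw [e']
        _ = (a : G)⁻¹ * (a' : G) * h := by group
    rw [MinIn.inf_centralizer_eq_bot c.hyp c.nonab c.minIn, Subgroup.mem_bot] at h3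
    apply Subtype.ext
    exact inv_mul_eq_one.mp h3
  exact (Nat.card_le_card_of_injective f hf).trans hcard

end Cfsg.Agent.Helper23.S87

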