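import Mathlib
import Cfsg.Agent.Lib.S87.S87Defs
import Cfsg.Agent.Lib.S87.S87Rhoa
import Cfsg.Agent.Lib.S87.S87Spl2

/-!
# S4587 farm, piece S87-RHOB (design helper23)

`[N∩P, N∩P] ≤ C_G(L)`. By `Subgroup.commutator_le` it suffices: for `r, r' ∈ N ⊓ P`, `⁅r, r'⁆ ∈ centralizer L`.
`MinIn.split c.hyp c.nonab c.minIn` (S87Spl2): `r = a * b`, `r' = a' * b'` with `a, a' ∈ L ⊓ P`, `b, b' ∈ N ⊓ centralizer L ⊓ P`.
`L ⊓ P` is commutative: it is a `p`-group (`P.2.to_le inf_le_right`) of order `≤ p` (`Cfg.card_inf_le`, S87Rhoa), so of order `1` or `p`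
(`IsPGroup.iff_card`), hence trivial or cyclic (`isCyclic_of_prime_card`), hence `a * a' = a' * a`.
`b, b'` commute with `a, a'` (`Subgroup.mem_centralizer_iff`). Then `a b a' b' (a b)⁻¹ (a' b')⁻¹ = b b' b⁻¹ b'⁻¹` (group algebra using those
four commutation relations), which lies in `centralizer L` (a subgroup containing `b, b'`).
-/

set_option autoImplicit false

namespace Cfsg.Agent.Helper23.S87

open Cfsg.Agent.Helper15.ZStarMin

universe u

variable {G : Type u} [Group G] [Finite G] {p : ℕ} [Fact p.Prime] {P : Sylow p G}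
  {N L K : Subgroup G} {y : G}

theorem s87rhob_comm_left {X : Type*} [Group X] (a b z : X) (c1 : Commute a b) (c2 : Commute a z) :
    a * b * z * (a * b)⁻¹ * z⁻¹ = b * z * b⁻¹ * z⁻¹ := by
  have hW : Commute a (b * z * b⁻¹) := (c1.mul_right c2).mul_right c1.inv_right
  have h1 := hW.mul_inv_cancel
  calc a * b * z * (a * b)⁻¹ * z⁻¹ = (a * (b * z * b⁻¹) * a⁻¹) * z⁻¹ := by group
    _ = b * z * b⁻¹ * z⁻¹ := by rw [h1]

theorem s87rhob_comm_right {X : Type*} [Group X] (a b z : X) (c1 : Commute a b) (c2 : Commute a z) :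
    z * (a * b) * z⁻¹ * (a * b)⁻¹ = z * b * z⁻¹ * b⁻¹ := by
  have h1 : z * (a * b) * z⁻¹ * (a * b)⁻¹ = (a * b * z * (a * b)⁻¹ * z⁻¹)⁻¹ := by group
  rw [h1, s87rhob_comm_left a b z c1 c2]
  group

theorem Cfg.commutator_le_centralizer (c : Cfg p P N L y) :
    ⁅N ⊓ (P : Subgroup G), N ⊓ (P : Subgroup G)⁆ ≤ Subgroup.centralizer (L : Set G) := by
  have hp : p.Prime := Fact.out
  -- `L ⊓ P` is commutative
  have hcommLP : ∀ a ∈ L ⊓ (P : Subgroup G), ∀ a' ∈ L ⊓ (P : Subgroup G), a * a' = a' * a := by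
    have hpg : IsPGroup p ↥(L ⊓ (P : Subgroup G)) := P.2.to_le inf_le_right
    obtain ⟨n, hn⟩ := IsPGroup.iff_card.mp hpg
    have hle := c.card_inf_le
    rw [hn] at hle
    have hn1 : n ≤ 1 := by
      by_contra hcon
      push Not at hcon
      have h2 : p ^ 2 ≤ p ^ n := Nat.pow_le_pow_right hp.pos hcon
      have h3 : p * p ≤ p := by
        rw [← pow_two]
        exact h2.trans hle
      nlinarith [hp.two_le]
    have hcyc : IsCyclic ↥(L ⊓ (P : Subgroup G)) := by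
      interval_cases n
      · have : Subsingleton ↥(L ⊓ (P : Subgroup G)) :=
          (Nat.card_eq_one_iff_unique.mp (by simpa using hn)).1
        infer_instance
      · exact isCyclic_of_prime_card (p := p) (by simpa using hn)
    intro a ha a' ha'
    obtain ⟨g, hg⟩ := hcyc.exists_generator
    obtain ⟨i, hi⟩ := Subgroup.mem_zpowers_iff.mp (hg ⟨a, ha⟩)
    obtain ⟨j, hj⟩ := Subgroup.mem_zpowers_iff.mp (hg ⟨a', ha'⟩)
    have h4 : (⟨a, ha⟩ : ↥(L ⊓ (P : Subgroup G))) * ⟨a', ha'⟩ = ⟨a', ha'⟩ * ⟨a, ha⟩ := by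
      rw [← hi, ← hj]
      exact zpow_mul_comm g i j
    exact congrArg (fun v : ↥(L ⊓ (P : Subgroup G)) => (v : G)) h4
  rw [Subgroup.commutator_le]
  intro r hr r' hr'
  obtain ⟨a, ha, b, hb, rfl⟩ := MinIn.split c.hyp c.nonab c.minIn r hr
  obtain ⟨a', ha', b', hb', rfl⟩ := MinIn.split c.hyp c.nonab c.minIn r' hr'
  have hbC : b ∈ Subgroup.centralizer (L : Set G) :=
    (Subgroup.mem_inf.mp (Subgroup.mem_inf.mp hb).1).2
  have hb'C : b' ∈ Subgroup.centralizer (L : Set G) :=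
    (Subgroup.mem_inf.mp (Subgroup.mem_inf.mp hb').1).2
  have haL : a ∈ L := (Subgroup.mem_inf.mp ha).1
  have ha'L : a' ∈ L := (Subgroup.mem_inf.mp ha').1
  have c1 : Commute a b := Subgroup.mem_centralizer_iff.mp hbC a haL
  have c2 : Commute a' b := Subgroup.mem_centralizer_iff.mp hbC a' ha'L
  have c3 : Commute a b' := Subgroup.mem_centralizer_iff.mp hb'C a haL
  have c4 : Commute a' b' := Subgroup.mem_centralizer_iff.mp hb'C a' ha'L
  have c5 : Commute a a' := hcommLP a ha a' ha'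
  rw [commutatorElement_def, s87rhob_comm_left a b (a' * b') c1 (c5.mul_right c3),
      s87rhob_comm_right a' b' b c4 c2]
  exact mul_mem (mul_mem (mul_mem hbC hb'C) (inv_mem hbC)) (inv_mem hb'C)

end Cfsg.Agent.Helper23.S87

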