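import Mathlib
import Cfsg.Agent.Lib.S87.S87Defs
import Cfsg.Agent.Lib.S87.S87Rhob
import Cfsg.Agent.Lib.S87.S87Cjpow
import Cfsg.Agent.Lib.S87.S87Nm
import Cfsg.Agent.Lib.S87.S87Na0

/-!
# S4587 farm, piece S87-RAB (design helper23)

`N ∩ P` is commutative. `D := ⁅N ⊓ P, N ⊓ P⁆`. For each `i : ℤ`, `Cfg.cj_zpow c i : Cfg p P N (cj (y^i) L) y` (S87Cjpow), so
`Cfg.commutator_le_centralizer` (S87Rhob) gives `D ≤ centralizer (cj (y^i) L)`. Hence every `cj (y^i) L ≤ centralizer D`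
(`Subgroup.le_centralizer_iff`), so `Msup y L ≤ centralizer D` (`iSup_le`), so `N ≤ centralizer D` (`Cfg.le_Msup`, S87Nm), i.e.
`D ≤ centralizer N = ⊥` (`NonAb.centralizer_eq_bot c.hyp c.nonab`, S87Na0). So `D = ⊥` and `a * b = b * a` for `a, b ∈ N ⊓ P`
(`Subgroup.commutator_mem_commutator`, `commutatorElement_eq_one_iff_mul_comm`).
-/

set_option autoImplicit false

namespace Cfsg.Agent.Helper23.S87

open Cfsg.Agent.Helper15.ZStarMin

universe u

variable {G : Type u} [Group G] [Finite G] {p : ℕ} [Fact p.Prime] {P : Sylow p G}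
  {N L K : Subgroup G} {y : G}

theorem Cfg.comm (c : Cfg p P N L y) :
    ∀ a ∈ N ⊓ (P : Subgroup G), ∀ b ∈ N ⊓ (P : Subgroup G), a * b = b * a := by
  have hD : ∀ i : ℤ, ⁅N ⊓ (P : Subgroup G), N ⊓ (P : Subgroup G)⁆ ≤
      Subgroup.centralizer ((cj (y ^ i) L : Subgroup G) : Set G) := fun i =>
    (c.cj_zpow i).commutator_le_centralizer
  have hcj : ∀ i : ℤ, cj (y ^ i) L ≤
      Subgroup.centralizer ((⁅N ⊓ (P : Subgroup G), N ⊓ (P : Subgroup G)⁆ : Subgroup G) : Set G) := by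
    intro i
    have h := hD i
    rw [Subgroup.le_centralizer_iff] at h
    exact h
  have hM : Msup y L ≤
      Subgroup.centralizer ((⁅N ⊓ (P : Subgroup G), N ⊓ (P : Subgroup G)⁆ : Subgroup G) : Set G) := by
    unfold Msup
    exact iSup_le hcj
  have hN : N ≤
      Subgroup.centralizer ((⁅N ⊓ (P : Subgroup G), N ⊓ (P : Subgroup G)⁆ : Subgroup G) : Set G) :=
    c.le_Msup.trans hM
  have hDN : ⁅N ⊓ (P : Subgroup G), N ⊓ (P : Subgroup G)⁆ ≤ Subgroup.centralizer (N : Set G) := by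
    rw [Subgroup.le_centralizer_iff]
    exact hN
  rw [NonAb.centralizer_eq_bot c.hyp c.nonab] at hDN
  intro a ha b hb
  have hab := Subgroup.commutator_mem_commutator ha hb
  have h1 := hDN hab
  rw [Subgroup.mem_bot] at h1
  exact commutatorElement_eq_one_iff_mul_comm.mp h1

end Cfsg.Agent.Helper23.S87

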