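import Mathlib
import Cfsg.Agent.Lib.S87.S87Defs
import Cfsg.Agent.Lib.Helper22.MaxClass

/-!
# S4587 farm, piece S87-REV (design helper23)

The reverse direction. `x` is a `p`-element, so `zpowers x` is a `p`-group and lies in a Sylow `Q` (`IsPGroup.exists_le_sylow`);
`|Q| = p^n` with `n = v_p |G| ≥ 2` (`Sylow.card_eq_multiplicity`, `hbig`). In `X := ↥Q` with `a := ⟨x, _⟩` the centralizer of `a` is
(in bijection with) `centralizer {x} ⊓ Q`, a `p`-subgroup of `centralizer {x}`: its order `p^j` divides `|centralizer {x}|`,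
so `j ≤ 2` (`hc`), i.e. `Nat.card (centralizer {a}) ≤ p ^ 2`.
`Cfsg.Agent.Helper22.maxClass_of_card_centralizer_le p n hn X hcard a hle` (Lib/Helper22/MaxClass.lean; check its binder order)
gives `(commutator X).index = p ^ 2`. Transport from `Q` to `P`: `Q = g • P` (`MulAction.exists_smul_eq G P Q`) or `Sylow.equiv`
gives `↥P ≃* ↥Q`, and `(commutator ↥P).index = (commutator ↥Q).index` (map of the commutator under an equivalence:
`Subgroup.map_commutator`/`commutator_def`, `Subgroup.index_map_equiv`).
Finally `(⁅P, P⁆).relIndex P = (⁅P,P⁆.subgroupOf P).index` and `⁅P,P⁆.subgroupOf P = commutator ↥P`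
(`Subgroup.map_subtype_commutator`, `Subgroup.subgroupOf_map_subtype`/`Subgroup.comap_map_eq_self_of_injective`).
-/

set_option autoImplicit false

namespace Cfsg.Agent.Helper23.S87

open Cfsg.Agent.Helper15.ZStarMin

universe u

variable {G : Type u} [Group G] [Finite G] {p : ℕ} [Fact p.Prime] {P : Sylow p G}
  {N L K : Subgroup G} {y : G}

omit [Finite G] in
/-- `[H,H]` has the same relative index in `H` as the commutator subgroup of the group `↥H` has index. -/
theorem s87rev_relIndex_eq (H : Subgroup G) :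
    (⁅H, H⁆).relIndex H = (_root_.commutator ↥H).index := by
  unfold Subgroup.relIndex
  congr 1
  rw [← Subgroup.map_subtype_commutator H]
  exact Subgroup.comap_map_eq_self_of_injective (Subgroup.subtype_injective H) _

theorem relIndex_commutator_of_centralizer (P : Sylow p G) (hbig : p ^ 2 ∣ Nat.card G) (x : G)
    (hx : ∃ k : ℕ, orderOf x = p ^ k)
    (hc : (Nat.card ↥(Subgroup.centralizer ({x} : Set G))).factorization p = 2) :
    (⁅(P : Subgroup G), (P : Subgroup G)⁆).relIndex (P : Subgroup G) = p ^ 2 := by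
  have hp : p.Prime := Fact.out
  have hn0 : Nat.card G ≠ 0 := Nat.card_pos.ne'
  obtain ⟨k, hk⟩ := hx
  -- a Sylow subgroup containing `x`
  have hzp : IsPGroup p ↥(Subgroup.zpowers x) := by
    apply IsPGroup.of_card (n := k)
    rw [Nat.card_zpowers, hk]
  obtain ⟨Q, hQ⟩ := hzp.exists_le_sylow
  have hxQ : x ∈ (Q : Subgroup G) := hQ (Subgroup.mem_zpowers x)
  -- the result for `Q`
  have hQres : (⁅(Q : Subgroup G), (Q : Subgroup G)⁆).relIndex (Q : Subgroup G) = p ^ 2 := by
    rw [s87rev_relIndex_eq]
    have hcard : Nat.card ↥(Q : Subgroup G) = p ^ (Nat.card G).factorization p :=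
      Q.card_eq_multiplicity
    have h2 : 2 ≤ (Nat.card G).factorization p :=
      (hp.pow_dvd_iff_le_factorization hn0).mp hbig
    have hle : Nat.card ↥(Subgroup.centralizer ({(⟨x, hxQ⟩ : ↥(Q : Subgroup G))} :
        Set ↥(Q : Subgroup G))) ≤ p ^ 2 := by
      set C : Subgroup ↥(Q : Subgroup G) :=
        Subgroup.centralizer ({(⟨x, hxQ⟩ : ↥(Q : Subgroup G))} : Set ↥(Q : Subgroup G)) with hC
      have hCp : IsPGroup p ↥C := Q.2.to_subgroup C
      obtain ⟨j, hj⟩ := IsPGroup.iff_card.mp hCp
      have hmap : Nat.card ↥(C.map (Q : Subgroup G).subtype) = Nat.card ↥C :=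
        Subgroup.card_map_of_injective (Subgroup.subtype_injective _)
      have hle' : C.map (Q : Subgroup G).subtype ≤ Subgroup.centralizer ({x} : Set G) := by
        rintro _ ⟨c, hc', rfl⟩
        rw [Subgroup.mem_centralizer_singleton_iff]
        have := (Subgroup.mem_centralizer_singleton_iff.mp hc')
        exact congrArg Subtype.val this
      have hdvd : p ^ j ∣ Nat.card ↥(Subgroup.centralizer ({x} : Set G)) := by
        rw [← hj, ← hmap]
        exact Subgroup.card_dvd_of_le hle'
      have hne : Nat.card ↥(Subgroup.centralizer ({x} : Set G)) ≠ 0 := Nat.card_pos.ne'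
      have hj2 : j ≤ 2 := by
        have := (hp.pow_dvd_iff_le_factorization hne).mp hdvd
        omega
      rw [hj]
      exact Nat.pow_le_pow_right hp.pos hj2
    exact (Cfsg.Agent.Helper22.maxClass_of_card_centralizer_le p _ h2 ↥(Q : Subgroup G) hcard
      ⟨x, hxQ⟩ hle).2
  -- transport to `P`
  obtain ⟨g, hg⟩ := MulAction.exists_smul_eq G P Q
  have hQP : (Q : Subgroup G) = (P : Subgroup G).map (MulAut.conj g).toMonoidHom := by
    rw [← hg]
    rfl
  have hcomm : ⁅(Q : Subgroup G), (Q : Subgroup G)⁆ =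
      (⁅(P : Subgroup G), (P : Subgroup G)⁆).map (MulAut.conj g).toMonoidHom := by
    rw [Subgroup.map_commutator, ← hQP]
  rw [hcomm, hQP, Subgroup.relIndex_map_map_of_injective _ _ (MulAut.conj g).injective] at hQres
  exact hQres

end Cfsg.Agent.Helper23.S87
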