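import Mathlib
import Cfsg.Agent.Lib.S87.S87Defs

/-!
# S4587 farm, piece S87-SMALL (design helper23)

If `|P| ≤ p²` and `p² ∣ |G|` then `x = 1` works: `orderOf 1 = p^0`, `centralizer {1} = ⊤` (`Subgroup.centralizer_eq_top_iff_subset`
or `ext; simp [Subgroup.mem_centralizer_iff]`), `Nat.card ⊤ = Nat.card G` (`Subgroup.card_top`), and
`(Nat.card G).factorization p = 2`: `|P| = p ^ (Nat.card G).factorization p` (`Sylow.card_eq_multiplicity`), `≤ p²` gives `≤ 2`
(`Nat.pow_le_pow_iff_right`), and `p² ∣ |G|` gives `≥ 2` (`(Nat.Prime.pow_dvd_iff_le_factorization hp hn).mp`).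
`Concl` is in S87Defs (`unfold Concl`).
-/

set_option autoImplicit false

namespace Cfsg.Agent.Helper23.S87

open Cfsg.Agent.Helper15.ZStarMin

universe u

variable {G : Type u} [Group G] [Finite G] {p : ℕ} [Fact p.Prime] {P : Sylow p G}
  {N L K : Subgroup G} {y : G}

theorem concl_of_card_le (P : Sylow p G) (hbig : p ^ 2 ∣ Nat.card G)
    (hle : Nat.card ↥(P : Subgroup G) ≤ p ^ 2) : Concl p G := by
  have hp : p.Prime := Fact.out
  have hn : Nat.card G ≠ 0 := Nat.card_pos.ne'
  refine ⟨1, ⟨0, by simp⟩, ?_⟩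
  have htop : Subgroup.centralizer ({1} : Set G) = ⊤ := by
    ext g
    simp [Subgroup.mem_centralizer_iff]
  rw [htop, Subgroup.card_top]
  have h1 : Nat.card ↥(P : Subgroup G) = p ^ (Nat.card G).factorization p :=
    P.card_eq_multiplicity
  have h2 : 2 ≤ (Nat.card G).factorization p :=
    (hp.pow_dvd_iff_le_factorization hn).mp hbig
  have h3 : (Nat.card G).factorization p ≤ 2 := by
    rw [h1] at hle
    exact (Nat.pow_le_pow_iff_right hp.one_lt).mp hle
  omega

end Cfsg.Agent.Helper23.S87
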