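import Mathlib
import Cfsg.Agent.Lib.S87.S87Defs
import Cfsg.Agent.Lib.S87.S87Small
import Cfsg.Agent.Lib.S87.S87Rev
import Cfsg.Agent.Lib.S87.S87Star
import Cfsg.Agent.Lib.S87.S87Idx
import Cfsg.Agent.Lib.S87.S87Relp
import Cfsg.Agent.Lib.S87.S87Exl
import Cfsg.Agent.Lib.S87.S87Moved
import Cfsg.Agent.Lib.S87.S87Staba
import Cfsg.Agent.Lib.S87.S87Rab
import Cfsg.Agent.Lib.S87.S87End

/-!
# S4587 farm: final assembly (design helper23)
-/

set_option autoImplicit false

namespace Cfsg.Agent.Helper23.S87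

open Cfsg.Agent.Helper15.ZStarMin

universe u

variable {G : Type u} [Group G] [Finite G] {p : ℕ} [Fact p.Prime]

theorem forward (P : Sylow p G) (hbig : p ^ 2 ∣ Nat.card G) (hcore : Cfsg.pPrimeCore p G = ⊥)
    (hcore' : (⁅(P : Subgroup G), (P : Subgroup G)⁆).normalCore = ⊥)
    (hnas : ¬ ∃ S : Subgroup G, S.Normal ∧ IsSimpleGroup S ∧ ¬ IsMulCommutative S ∧
      Subgroup.centralizer (S : Set G) = ⊥)
    (hrel : (⁅(P : Subgroup G), (P : Subgroup G)⁆).relIndex (P : Subgroup G) = p ^ 2) :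
    Concl p G := by
  have hp : p.Prime := Fact.out
  by_cases hle : Nat.card ↥(P : Subgroup G) ≤ p ^ 2
  · exact concl_of_card_le P hbig hle
  have h : Hyp p P := ⟨hcore, hcore', hrel, not_le.mp hle⟩
  have htop : (⊤ : Subgroup G) ≠ ⊥ := by
    intro ht
    apply hle
    have h1 : (P : Subgroup G) = ⊥ := by
      rw [eq_bot_iff, ← ht]; exact le_top
    rw [h1, Subgroup.card_bot]
    exact Nat.one_le_pow _ _ hp.pos
  obtain ⟨N, -, hmin⟩ := exists_isMinInv_le (K := (⊤ : Subgroup G)) (M := (⊤ : Subgroup G)) htop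
    (by rw [Subgroup.normalizer_eq_top])
  have hNn : N.Normal := hmin.normal
  by_cases hab : ∀ a ∈ N, ∀ b ∈ N, a * b = b * a
  · have h1 := h.not_inf_le N hmin.1
    have h2 := h.relIndex_le N (by rw [Subgroup.normalizer_eq_top]; exact le_top) h1
    have h3 : ¬ (P : Subgroup G) ≤ N ⊓ (P : Subgroup G) := by
      intro hPN
      have hPab : ⁅(P : Subgroup G), (P : Subgroup G)⁆ = ⊥ := by
        rw [Subgroup.commutator_eq_bot_iff_le_centralizer]
        intro a ha
        rw [Subgroup.mem_centralizer_iff]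
        intro b hb
        exact hab b (hPN hb).1 a (hPN ha).1
      rw [hPab, Subgroup.relIndex_bot_left] at hrel
      rw [hrel] at hle
      exact hle le_rfl
    exact h.endgame N (fun a ha b hb => hab a ha.1 b hb.1) (relIndex_eq_prime P _ h2 h3)
  · have hN : NonAb N := ⟨hmin, hab⟩
    obtain ⟨L, hL, hLN⟩ := hN.exists_minIn_ne h hnas
    obtain ⟨L', y, c⟩ := hN.exists_cfg h L hL hLN
    exact h.endgame N c.comm c.relIndex_eq

theorem main (P : Sylow p G) (hbig : p ^ 2 ∣ Nat.card G) (hcore : Cfsg.pPrimeCore p G = ⊥)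
    (hcore' : (⁅(P : Subgroup G), (P : Subgroup G)⁆).normalCore = ⊥)
    (hnas : ¬ ∃ S : Subgroup G, S.Normal ∧ IsSimpleGroup S ∧ ¬ IsMulCommutative S ∧
      Subgroup.centralizer (S : Set G) = ⊥) :
    (⁅(P : Subgroup G), (P : Subgroup G)⁆).relIndex (P : Subgroup G) = p ^ 2 ↔
      ∃ x : G, (∃ k : ℕ, orderOf x = p ^ k) ∧
        (Nat.card (Subgroup.centralizer ({x} : Set G))).factorization p = 2 := by
  constructor
  · intro hrel
    exact forward P hbig hcore hcore' hnas hrel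
  · rintro ⟨x, hx, hc⟩
    exact relIndex_commutator_of_centralizer P hbig x hx hc

end Cfsg.Agent.Helper23.S87
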